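import Cfsg.Agent.Lib.SLCommutator.Generic

/-! Decompositions of cyclic transformations. -/

set_option autoImplicit false
set_option linter.unusedSectionVars false

namespace CfsgLib.SLCommutator

open Matrix Module

universe u v

variable {K : Type u} [Field K]

/-- A cyclic vector. -/
def Cyc {V : Type v} [AddCommGroup V] [Module K V] (M : Module.End K V) (v : V) : Prop :=
  ∀ p : Submodule K V, (∀ x ∈ p, M x ∈ p) → v ∈ p → p = ⊤

theorem Cyc.ne_zero {V : Type v} [AddCommGroup V] [Module K V] [FiniteDimensional K V] {M : Module.End K V} {v : V}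
    (h : Cyc M v) (hn : 0 < finrank K V) : v ≠ 0 := by
  intro e
  have := h ⊥ (fun x hx => by simp [(Submodule.mem_bot K).1 hx]) (by simp [e])
  have h2 := congrArg (fun p : Submodule K V => finrank K p) this
  simp at h2
  omega

theorem Cyc.choose {V : Type v} [AddCommGroup V] [Module K V] [FiniteDimensional K V] {M : Module.End K V} {v : V}
    (h : Cyc M v) (hn : 2 ≤ finrank K V) (x : K) :
    ∃ f : V →ₗ[K] K, f v = 1 ∧ f (M v) = 1 ∧ (3 ≤ finrank K V → f (M (M v)) = x) := by
  have hv := h.ne_zero (by omega)
  have h1 : M v ∉ Submodule.span K {v} := fun hm => by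
    have := h (Submodule.span K {v}) (fun y hy => by
      obtain ⟨r, rfl⟩ := Submodule.mem_span_singleton.1 hy
      rw [map_smul]; exact Submodule.smul_mem _ r hm) (Submodule.mem_span_singleton_self v)
    have h2 := congrArg (fun p : Submodule K V => finrank K p) this
    simp [finrank_span_singleton hv] at h2
    omega
  obtain ⟨f0, hf0, -⟩ := RegUnipProd.sep (p := (⊥ : Submodule K V)) (x := v) (by simpa using hv)
  obtain ⟨f1, hf1, hf1'⟩ := RegUnipProd.sep h1
  have hf1v : f1 v = 0 := hf1' v (Submodule.mem_span_singleton_self v)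
  set g : V →ₗ[K] K := f0 + (1 - f0 (M v)) • f1 with hg
  have hgv : g v = 1 := by simp [hg, hf0, hf1v]
  have hgM : g (M v) = 1 := by simp [hg, hf1]
  by_cases h3 : 3 ≤ finrank K V
  · have h2 : M (M v) ∉ Submodule.span K {v, M v} := fun hm => by
      have := h (Submodule.span K {v, M v}) (fun y hy => by
        obtain ⟨a, b, rfl⟩ := Submodule.mem_span_pair.1 hy
        rw [map_add, map_smul, map_smul]
        exact add_mem (Submodule.smul_mem _ a (Submodule.subset_span (by simp))) (Submodule.smul_mem _ b hm))
        (Submodule.subset_span (by simp))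
      classical
      have h4 := finrank_span_finset_le_card (R := K) (({v, M v} : Finset V))
      rw [Finset.coe_insert, Finset.coe_singleton] at h4
      have h5 : finrank K (Submodule.span K {v, M v}) = finrank K V := by rw [this, finrank_top]
      rw [Set.finrank, h5] at h4
      have := Finset.card_le_two (a := v) (b := M v)
      omega
    obtain ⟨f2, hf2, hf2'⟩ := RegUnipProd.sep h2
    refine ⟨g + (x - g (M (M v))) • f2, ?_, ?_, fun _ => ?_⟩
    · simp [hgv, hf2' v (Submodule.subset_span (by simp))]
    · simp [hgM, hf2' (M v) (Submodule.subset_span (by simp))]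
    · simp [hf2]
  · exact ⟨g, hgv, hgM, fun e => absurd e h3⟩

/-- One step along a cyclic vector. -/
theorem Cyc.peel {V : Type v} [AddCommGroup V] [Module K V] [FiniteDimensional K V] {M : Module.End K V} {v : V}
    (h : Cyc M v) (hn : 2 ≤ finrank K V) (x : K) :
    ∃ (f : V →ₗ[K] K) (G : Module.End K (LinearMap.ker f)) (c' : LinearMap.ker f),
      f v = 1 ∧ f (M v) = 1 ∧ (∀ w : LinearMap.ker f, (G w : V) = M w - f (M w) • M v) ∧ (c' : V) = M v - v ∧
      Cyc G c' ∧ finrank K (LinearMap.ker f) + 1 = finrank K V ∧ LinearMap.det G = LinearMap.det M ∧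
      (3 ≤ finrank K V → ((f ∘ₗ M) ∘ₗ (LinearMap.ker f).subtype) c' = x - 1 ∧
        LinearMap.trace K _ G = LinearMap.trace K V M - x) := by
  obtain ⟨f, hfe, hfM, hx⟩ := h.choose hn x
  set e := v with he
  set W := LinearMap.ker f with hW
  set π := RegUnipProd.proj e f hfe with hπ
  set β : W →ₗ[K] K := (f ∘ₗ M) ∘ₗ W.subtype with hβ
  let G : Module.End K W := LinearMap.codRestrict W (M ∘ₗ W.subtype - β.smulRight (M e)) fun w => by
    simp [hW, hβ, hfM]
  have hG : ∀ w : W, (G w : V) = M w - f (M w) • M e := fun w => rfl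
  let c' : W := ⟨M e - e, by simp [hW, hfM, hfe]⟩
  have hπe : π e = 0 := RegUnipProd.proj_self e f hfe
  have hπx : ∀ w : W, π w = w := RegUnipProd.proj_coe e f hfe
  have hfW : ∀ w : W, f w = 0 := fun w => LinearMap.mem_ker.mp w.2
  refine ⟨f, G, c', hfe, hfM, hG, rfl, ?_, ?_, ?_, fun h3 => ⟨?_, ?_⟩⟩
  · intro p hp hc
    have hp' : ∀ w ∈ p.map W.subtype ⊔ Submodule.span K {M e}, M w ∈ p.map W.subtype ⊔ Submodule.span K {M e} := by
      have hMp : ∀ y ∈ p, M (y : V) ∈ p.map W.subtype ⊔ Submodule.span K {M e} := fun y hy => by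
        have : M (y : V) = (G y : V) + f (M y) • M e := by rw [hG]; abel
        rw [this]
        exact Submodule.add_mem_sup ⟨G y, hp y hy, rfl⟩
          (Submodule.smul_mem _ _ (Submodule.mem_span_singleton_self _))
      intro w hw
      obtain ⟨_, ⟨y, hy, rfl⟩, _, hb, rfl⟩ := Submodule.mem_sup.1 hw
      obtain ⟨r, rfl⟩ := Submodule.mem_span_singleton.1 hb
      rw [map_add, map_smul]
      refine add_mem (hMp y hy) (Submodule.smul_mem _ r ?_)
      have : M (M e) = M (c' : V) + M e := by simp [c']
      rw [this]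
      exact add_mem (hMp c' hc) (Submodule.mem_sup_right (Submodule.mem_span_singleton_self _))
    have htop := h _ hp' (by
      have : e = -(c' : V) + M e := by simp [c']
      have hm : -(c' : V) + M e ∈ p.map W.subtype ⊔ Submodule.span K {M e} :=
        Submodule.add_mem_sup (Submodule.neg_mem _ ⟨c', hc, rfl⟩) (Submodule.mem_span_singleton_self _)
      rw [← this] at hm
      exact hm)
    refine Submodule.eq_top_iff'.2 fun w => ?_
    have hw : (w : V) ∈ p.map W.subtype ⊔ Submodule.span K {M e} := htop ▸ Submodule.mem_top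
    obtain ⟨_, ⟨y, hy, rfl⟩, _, hb, hs⟩ := Submodule.mem_sup.1 hw
    obtain ⟨r, rfl⟩ := Submodule.mem_span_singleton.1 hb
    have hr := congrArg f hs
    simp [hfW, hfM] at hr
    rw [hr, zero_smul, add_zero] at hs
    exact (Subtype.ext hs : y = w) ▸ hy
  · have h1 := LinearMap.finrank_range_add_finrank_ker f
    have hsurj : LinearMap.range f = ⊤ := LinearMap.range_eq_top.mpr fun t => ⟨t • e, by simp [hfe]⟩
    rw [hsurj, finrank_top, finrank_self] at h1
    rw [add_comm]; exact h1
  · have hdec : M = RegUnipProd.ext e f hfe 1 (M e) * RegUnipProd.ext e f hfe G e * (1 + (β ∘ₗ π).smulRight e) := by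
      refine LinearMap.ext fun v => ?_
      have e1 : (1 + (β ∘ₗ π).smulRight e) v = v + β (π v) • e := by simp
      have e2 : RegUnipProd.ext e f hfe G e (v + β (π v) • e) = (f v + β (π v)) • e + (G (π v) : V) := by
        rw [RegUnipProd.ext_apply, show RegUnipProd.proj e f hfe = π from rfl, map_add, map_add, map_smul, map_smul,
          hπe, smul_zero, add_zero, hfe, smul_eq_mul, mul_one]
      rw [Module.End.mul_apply, Module.End.mul_apply, e1, e2, RegUnipProd.ext_apply,
        show RegUnipProd.proj e f hfe = π from rfl, map_add,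
        map_add, map_smul, map_smul, hπe, smul_zero, zero_add, hfe, smul_eq_mul, mul_one, hfW, add_zero, hπx,
        Module.End.one_apply, hG]
      simp only [hβ, hπ, LinearMap.comp_apply, Submodule.coe_subtype, RegUnipProd.coe_proj, map_sub, map_smul,
        smul_eq_mul, hfM, mul_one]
      module
    have h1 : LinearMap.det (RegUnipProd.ext e f hfe (1 : Module.End K W) (M e)) = 1 := by
      have : RegUnipProd.ext e f hfe (1 : Module.End K W) (M e) = 1 + f.smulRight (M e - e) := LinearMap.ext fun v => by
        simp [RegUnipProd.ext_apply, RegUnipProd.coe_proj, smul_sub]; abel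
      rw [this]
      exact RegUnipProd.det_one_add_sq_zero _ (LinearMap.ext fun v => by simp [hfM, hfe])
    have h2 : LinearMap.det (1 + (β ∘ₗ π).smulRight e) = 1 :=
      RegUnipProd.det_one_add_sq_zero _ (LinearMap.ext fun v => by simp [hπe])
    conv_rhs => rw [hdec, map_mul, map_mul, h1, h2, RegUnipProd.det_ext, one_mul, mul_one]
  · simp [c', map_sub, hx h3, hfM]
  · have hdec : M = (W.subtype ∘ₗ G) ∘ₗ π + (f + β ∘ₗ π).smulRight (M e) := by
      refine LinearMap.ext fun v => ?_
      simp [hG, hβ, hπ]
      rw [show ((RegUnipProd.proj e f hfe v : W) : V) = v - f v • e from RegUnipProd.coe_proj e f hfe v]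
      simp only [map_sub, map_smul, smul_eq_mul, hfM]
      module
    have h1 : LinearMap.trace K V ((W.subtype ∘ₗ G) ∘ₗ π) = LinearMap.trace K W G := by
      rw [LinearMap.trace_comp_comm']
      congr 1
      exact LinearMap.ext fun w => by simp [hπx]
    have h2 : (f + β ∘ₗ π) (M e) = x := by
      have : (π (M e) : V) = M e - e := by rw [hπ, RegUnipProd.coe_proj, hfM, one_smul]
      simp [hβ, this, map_sub, hfM, hx h3]
    conv_rhs => rw [hdec, map_add, h1, LinearMap.trace_smulRight, h2, add_sub_cancel_right]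

/-- The two-dimensional remainders of prescribed trace. -/
def EndTr (t : K) (E : Matrix (Fin 2) (Fin 2) K) : Prop := E.det = 1 ∧ E.trace = t

theorem cyc_split_one : ∀ (j : ℕ) {V : Type v} [AddCommGroup V] [Module K V] [FiniteDimensional K V]
    (M : Module.End K V) (v : V), finrank K V = j + 1 → Cyc M v → ∀ b : V →ₗ[K] K, (0 < j → b v ≠ 0) →
      Split M j v b (fun E : Matrix (Fin 1) (Fin 1) K => E 0 0 = LinearMap.det M) := by
  intro j
  induction j with
  | zero =>
    intro V _ _ _ M v hfin _ b _
    let B := Module.finBasisOfFinrankEq K V hfin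
    refine split_two M B v b ?_
    rw [← Matrix.det_fin_one (LinearMap.toMatrix B B M), LinearMap.det_toMatrix]
  | succ j ih =>
    intro V _ _ _ M v hfin hv b hb
    obtain ⟨f, G, c', hfe, hfM, hG, hc', hcyc, hdim, hdet, h3⟩ := hv.peel (by omega) (0 : K)
    have := Split.step hfe hfM (c := v) (by rw [hfe]; exact one_ne_zero) (hb (by omega)) G hG c' hc'
      (ih G c' (by omega) hcyc _ (fun hj => by rw [(h3 (by omega)).1]; simp))
    rwa [hdet] at this

theorem cyc_split_two (t : K) : ∀ (j : ℕ) {V : Type v} [AddCommGroup V] [Module K V] [FiniteDimensional K V]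
    (M : Module.End K V) (v : V), finrank K V = j + 2 → Cyc M v → LinearMap.det M = 1 →
      (j = 0 → LinearMap.trace K V M = t) → ∀ b : V →ₗ[K] K, (0 < j → b v ≠ 0) → Split M j v b (EndTr t) := by
  intro j
  induction j with
  | zero =>
    intro V _ _ _ M v hfin _ hdet htr b _
    let B := Module.finBasisOfFinrankEq K V hfin
    exact split_two M B v b ⟨by rw [LinearMap.det_toMatrix, hdet],
      by rw [← LinearMap.trace_eq_matrix_trace, htr rfl]⟩
  | succ j ih =>
    intro V _ _ _ M v hfin hv hdet _ b hb
    obtain ⟨f, G, c', hfe, hfM, hG, hc', hcyc, hdim, hdetG, h3⟩ :=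
      hv.peel (by omega) (if j = 0 then LinearMap.trace K V M - t else 0)
    obtain ⟨hβ, htrG⟩ := h3 (by omega)
    exact Split.step hfe hfM (c := v) (by rw [hfe]; exact one_ne_zero) (hb (by omega)) G hG c' hc'
      (ih G c' (by omega) hcyc (hdetG.trans hdet) (fun e => by rw [htrG, if_pos e]; ring) _
        (fun hj => by rw [hβ, if_neg hj.ne']; simp))

end CfsgLib.SLCommutator
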