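import Mathlib

/-! Commutators from a block decomposition. -/

set_option autoImplicit false
set_option linter.unusedSectionVars false

namespace CfsgLib.SLCommutator

open Matrix

variable {K : Type*} [Field K]

/-- A commutator of two maps of determinant one, written without inverses. -/
def OpGood {V : Type*} [AddCommGroup V] [Module K V] (M : Module.End K V) : Prop :=
  ∃ a b : Module.End K V, LinearMap.det a = 1 ∧ LinearMap.det b = 1 ∧ M * (b * a) = a * b

/-- The same for matrices. -/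
def Good {n : Type*} [Fintype n] [DecidableEq n] (g : Matrix n n K) : Prop :=
  ∃ a b : Matrix n n K, a.det = 1 ∧ b.det = 1 ∧ g * (b * a) = a * b

theorem OpGood.one {V : Type*} [AddCommGroup V] [Module K V] : OpGood (1 : Module.End K V) :=
  ⟨1, 1, map_one _, map_one _, by simp⟩

theorem OpGood.conj {V W : Type*} [AddCommGroup V] [Module K V] [AddCommGroup W] [Module K W]
    {M : Module.End K V} (h : OpGood M) (e : V ≃ₗ[K] W) (N : Module.End K W) (hN : ∀ v, N (e v) = e (M v)) :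
    OpGood N := by
  obtain ⟨a, b, ha, hb, h⟩ := h
  refine ⟨(e : V →ₗ[K] W) ∘ₗ a ∘ₗ (e.symm : W →ₗ[K] V), (e : V →ₗ[K] W) ∘ₗ b ∘ₗ (e.symm : W →ₗ[K] V),
    by rw [LinearMap.det_conj, ha], by rw [LinearMap.det_conj, hb], LinearMap.ext fun w => ?_⟩
  obtain ⟨v, rfl⟩ := e.surjective w
  simp only [Module.End.mul_apply, LinearMap.comp_apply, LinearEquiv.coe_coe, LinearEquiv.symm_apply_apply, hN]
  congr 1
  exact LinearMap.congr_fun h v

theorem OpGood.prod {V W : Type*} [AddCommGroup V] [Module K V] [AddCommGroup W] [Module K W]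
    [FiniteDimensional K V] [FiniteDimensional K W]
    {M : Module.End K V} {N : Module.End K W} (hM : OpGood M) (hN : OpGood N) :
    OpGood (LinearMap.prodMap M N) := by
  obtain ⟨a, b, ha, hb, h⟩ := hM
  obtain ⟨c, d, hc, hd, h'⟩ := hN
  refine ⟨a.prodMap c, b.prodMap d, by rw [LinearMap.det_prodMap, ha, hc, one_mul],
    by rw [LinearMap.det_prodMap, hb, hd, one_mul], ?_⟩
  rw [LinearMap.prodMap_mul, LinearMap.prodMap_mul, LinearMap.prodMap_mul, h, h']

theorem Good.opGood {n : Type*} [Fintype n] [DecidableEq n] {g : Matrix n n K} (h : Good g) :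
    OpGood (Matrix.toLin' g) := by
  obtain ⟨a, b, ha, hb, h⟩ := h
  refine ⟨Matrix.toLin' a, Matrix.toLin' b, by rw [LinearMap.det_toLin', ha], by rw [LinearMap.det_toLin', hb], ?_⟩
  simp only [Module.End.mul_eq_comp, ← Matrix.toLin'_mul, h]

theorem good_of_opGood {n : Type*} [Fintype n] [DecidableEq n] {g : Matrix n n K}
    (h : OpGood (Matrix.toLin' g)) : Good g := by
  obtain ⟨a, b, ha, hb, h⟩ := h
  refine ⟨LinearMap.toMatrix' a, LinearMap.toMatrix' b, by rw [LinearMap.det_toMatrix', ha],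
    by rw [LinearMap.det_toMatrix', hb], ?_⟩
  have := congrArg LinearMap.toMatrix' h
  rwa [LinearMap.toMatrix'_mul, LinearMap.toMatrix'_mul, LinearMap.toMatrix'_toLin', LinearMap.toMatrix'_mul] at this

section Sylvester

variable {ι κ : Type*} [Fintype ι] [DecidableEq ι] [Fintype κ] [DecidableEq κ]

theorem intertwine_pow {A : Matrix ι ι K} {D : Matrix κ κ K} {X : Matrix ι κ K} (h : A * X = X * D) (m : ℕ) :
    A ^ m * X = X * D ^ m := by
  induction m with
  | zero => simp
  | succ m ih => rw [pow_succ, pow_succ', Matrix.mul_assoc, h, ← Matrix.mul_assoc, ih, Matrix.mul_assoc, ← pow_succ,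
      ← pow_succ']

/-- The equation `A X - X D = C` when `A` is unipotent and `D` has no fixed vector. -/
theorem exists_sylvester {A : Matrix ι ι K} {D : Matrix κ κ K} {m : ℕ} (hA : (A - 1) ^ m = 0)
    (hD : IsUnit (D - 1)) (C : Matrix ι κ K) : ∃ X : Matrix ι κ K, A * X - X * D = C := by
  let T : Matrix ι κ K →ₗ[K] Matrix ι κ K :=
    { toFun := fun X => A * X - X * D
      map_add' := fun X Y => by simp only [Matrix.mul_add, Matrix.add_mul]; abel
      map_smul' := fun c X => by simp [smul_sub] }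
  have hinj : Function.Injective T := by
    rw [← LinearMap.ker_eq_bot, LinearMap.ker_eq_bot']
    intro X hX
    have h : (A - 1) * X = X * (D - 1) := by
      rw [Matrix.sub_mul, Matrix.mul_sub, Matrix.one_mul, Matrix.mul_one, sub_eq_zero.1 (show A * X - X * D = 0 from hX)]
    have := intertwine_pow h m
    rw [hA, Matrix.zero_mul] at this
    obtain ⟨u, hu⟩ := hD.pow m
    calc X = X * ((D - 1) ^ m) * (↑u⁻¹ : Matrix κ κ K) := by rw [Matrix.mul_assoc, ← hu, Units.mul_inv, Matrix.mul_one]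
      _ = 0 := by rw [← this, Matrix.zero_mul]
  exact (LinearMap.injective_iff_surjective.1 hinj) C

theorem exists_sylvester' {A : Matrix ι ι K} {D : Matrix κ κ K} {m : ℕ} (hA : (A - 1) ^ m = 0)
    (hD : IsUnit (D - 1)) (C : Matrix κ ι K) : ∃ X : Matrix κ ι K, D * X - X * A = C := by
  obtain ⟨Y, hY⟩ := exists_sylvester (A := Aᵀ) (D := Dᵀ) (m := m)
    (by rw [← Matrix.transpose_one, ← Matrix.transpose_sub, ← Matrix.transpose_pow, hA, Matrix.transpose_zero])
    (by
      rw [← Matrix.transpose_one, ← Matrix.transpose_sub]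
      refine (Matrix.isUnit_iff_isUnit_det _).2 ?_
      rw [Matrix.det_transpose]
      exact (Matrix.isUnit_iff_isUnit_det _).1 hD) (-Cᵀ)
  refine ⟨Yᵀ, ?_⟩
  have := congrArg Matrix.transpose hY
  rw [Matrix.transpose_sub, Matrix.transpose_mul, Matrix.transpose_mul, Matrix.transpose_neg,
    Matrix.transpose_transpose, Matrix.transpose_transpose, Matrix.transpose_transpose] at this
  rw [← neg_sub, this, neg_neg]

/-- The central lemma: a leading block which is a product `L U` with `L` similar to the inverse of `U`. -/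
theorem good_of_blocks {L U : Matrix ι ι K} {Q : Matrix ι κ K} {R : Matrix κ ι K} {E W : Matrix κ κ K}
    {m : ℕ} (hL : (L - 1) ^ m = 0) (hU : (U - 1) ^ m = 0) (hUd : U.det = 1)
    (hsim : ∃ P : (Matrix ι ι K)ˣ, L * P.1 * U = P.1)
    (hWd : W.det = 1) (hW1 : IsUnit (W - 1)) (hEW : ∃ P : (Matrix κ κ K)ˣ, E * W * P.1 = P.1 * W)
    (hz : ∀ d : Kˣ, ∃ z : Matrix κ κ K, z * W = W * z ∧ z.det = d) :
    Good (Matrix.fromBlocks (L * U) (L * Q) (R * U) (R * Q + E)) := by
  obtain ⟨Ui, hUi⟩ : ∃ Ui : (Matrix ι ι K)ˣ, Ui.1 = U :=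
    (Matrix.isUnit_iff_isUnit_det U).2 (by rw [hUd]; exact isUnit_one)
  subst hUi
  set V : Matrix ι ι K := (↑Ui⁻¹ : Matrix ι ι K) with hV
  have hVU : V * Ui.1 = 1 := Ui.inv_mul
  have hUV : Ui.1 * V = 1 := Ui.mul_inv
  have hVnil : (V - 1) ^ m = 0 := by
    have e : V - 1 = V * -(Ui.1 - 1) := by rw [mul_neg, mul_sub, hVU, mul_one, neg_sub]
    have hc : Commute V (-(Ui.1 - 1)) :=
      ((show Commute V Ui.1 from hVU.trans hUV.symm).sub_right (Commute.one_right V)).neg_right
    rw [e, hc.mul_pow, neg_pow, hU, mul_zero, mul_zero]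
  obtain ⟨P, hP⟩ := hsim
  obtain ⟨P2, hP2⟩ := hEW
  have hEW1 : IsUnit (E * W - 1) := by
    have : E * W - 1 = P2.1 * (W - 1) * (↑P2⁻¹ : Matrix κ κ K) := by
      rw [mul_sub, sub_mul, mul_one, Units.mul_inv, ← hP2, mul_assoc, Units.mul_inv, mul_one]
    rw [this]
    exact (P2.isUnit.mul hW1).mul P2⁻¹.isUnit
  -- the first element
  set a : Matrix (ι ⊕ κ) (ι ⊕ κ) K := Matrix.fromBlocks V (-(V * Q * W)) 0 W with ha
  obtain ⟨X1, hX1⟩ := exists_sylvester (A := V) (D := W) hVnil hW1 (-(V * Q * W))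
  obtain ⟨X2, hX2⟩ := exists_sylvester' (A := L) (D := E * W) hL hEW1 (-R)
  set g := Matrix.fromBlocks (L * Ui.1) (L * Q) (R * Ui.1) (R * Q + E) with hg
  have hga : g * a = Matrix.fromBlocks L 0 R (E * W) := by
    rw [hg, ha, Matrix.fromBlocks_multiply]
    congr 1
    · rw [Matrix.mul_zero, add_zero, Matrix.mul_assoc, hUV, Matrix.mul_one]
    · rw [Matrix.mul_neg, ← Matrix.mul_assoc (L * Ui.1), ← Matrix.mul_assoc (L * Ui.1), Matrix.mul_assoc L Ui.1 V, hUV,
        Matrix.mul_one, neg_add_cancel]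
    · rw [Matrix.mul_zero, add_zero, Matrix.mul_assoc, hUV, Matrix.mul_one]
    · rw [Matrix.mul_neg, ← Matrix.mul_assoc (R * Ui.1), ← Matrix.mul_assoc (R * Ui.1), Matrix.mul_assoc R Ui.1 V, hUV,
        Matrix.mul_one, Matrix.add_mul, ← add_assoc, neg_add_cancel, zero_add]
  set D : Matrix (ι ⊕ κ) (ι ⊕ κ) K := Matrix.fromBlocks V 0 0 W with hD
  set T : Matrix (ι ⊕ κ) (ι ⊕ κ) K := Matrix.fromBlocks 1 X1 0 1 with hT
  set T' : Matrix (ι ⊕ κ) (ι ⊕ κ) K := Matrix.fromBlocks 1 0 X2 1 with hT'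
  set S : Matrix (ι ⊕ κ) (ι ⊕ κ) K := Matrix.fromBlocks P.1 0 0 P2.1 with hS
  have e1 : T * a = D * T := by
    rw [hT, hD, ha, Matrix.fromBlocks_multiply, Matrix.fromBlocks_multiply]
    congr 1
    · simp
    · rw [Matrix.one_mul, Matrix.zero_mul, add_zero, ← hX1]; abel
    · simp
    · simp
  have e2 : (g * a) * (T' * S) = (T' * S) * D := by
    rw [hga, hT', hS, hD]
    simp only [Matrix.fromBlocks_multiply, Matrix.zero_mul, Matrix.mul_zero, add_zero, zero_add, Matrix.one_mul,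
      Matrix.mul_one]
    congr 1
    · calc L * P.1 = L * P.1 * (Ui.1 * V) := by rw [hUV, Matrix.mul_one]
        _ = P.1 * V := by rw [← Matrix.mul_assoc, hP]
    · rw [Matrix.mul_assoc X2 P.1 V, show P.1 * V = L * P.1 by
        calc P.1 * V = L * P.1 * Ui.1 * V := by rw [hP]
          _ = L * P.1 := by rw [Matrix.mul_assoc, hUV, Matrix.mul_one],
        ← Matrix.mul_assoc X2, ← Matrix.mul_assoc (E * W), ← Matrix.add_mul]
      congr 1
      rw [← neg_neg R, ← hX2]; abel
  have hTd : T.det = 1 := by rw [hT, Matrix.det_fromBlocks_zero₂₁, Matrix.det_one, Matrix.det_one, mul_one]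
  have hT'd : T'.det = 1 := by rw [hT', Matrix.det_fromBlocks_zero₁₂, Matrix.det_one, Matrix.det_one, mul_one]
  have hPd : P.1.det ≠ 0 := ((Matrix.isUnit_iff_isUnit_det _).1 P.isUnit).ne_zero
  have hP2d : P2.1.det ≠ 0 := ((Matrix.isUnit_iff_isUnit_det _).1 P2.isUnit).ne_zero
  obtain ⟨z, hzW, hzd⟩ := hz (Units.mk0 ((P.1.det * P2.1.det)⁻¹) (inv_ne_zero (mul_ne_zero hPd hP2d)))
  set Z : Matrix (ι ⊕ κ) (ι ⊕ κ) K := Matrix.fromBlocks 1 0 0 z with hZ
  have e3 : Z * D = D * Z := by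
    rw [hZ, hD, Matrix.fromBlocks_multiply, Matrix.fromBlocks_multiply]
    simp [hzW]
  have hZd : Z.det = (P.1.det * P2.1.det)⁻¹ := by
    rw [hZ, Matrix.det_fromBlocks_zero₂₁, Matrix.det_one, one_mul, hzd, Units.val_mk0]
  refine ⟨T' * S * Z * T, a, ?_, ?_, ?_⟩
  · rw [Matrix.det_mul, Matrix.det_mul, Matrix.det_mul, hT'd, hTd, hZd, hS, Matrix.det_fromBlocks_zero₂₁, one_mul,
      mul_one, mul_inv_cancel₀ (mul_ne_zero hPd hP2d)]
  · have : V.det = 1 := by
      have := congrArg Matrix.det hVU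
      rwa [Matrix.det_mul, hUd, mul_one, Matrix.det_one] at this
    rw [ha, Matrix.det_fromBlocks_zero₂₁, this, hWd, mul_one]
  · calc g * (a * (T' * S * Z * T)) = g * a * (T' * S) * Z * T := by simp only [Matrix.mul_assoc]
      _ = T' * S * (D * Z) * T := by rw [e2]; simp only [Matrix.mul_assoc]
      _ = T' * S * Z * (D * T) := by rw [← e3]; simp only [Matrix.mul_assoc]
      _ = T' * S * Z * T * a := by rw [← e1]; simp only [Matrix.mul_assoc]

end Sylvester

end CfsgLib.SLCommutator
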