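import Cfsg.Agent.Lib.RegUnipProd.Main

/-! One step of a block decomposition into regular unipotent bodies. -/

set_option autoImplicit false
set_option linter.unusedSectionVars false

namespace CfsgLib.SLCommutator

open Matrix Module

universe u v

variable {K : Type u} [Field K] {V : Type v} [AddCommGroup V] [Module K V]

/-- A decomposition of `M` with regular unipotent body of size `j` and remainder `E`. -/
def Split {κ : Type} [Fintype κ] [DecidableEq κ] (M : Module.End K V) (j : ℕ) (c : V) (b : V →ₗ[K] K)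
    (Pr : Matrix κ κ K → Prop) : Prop :=
  ∃ (ι : Type) (_ : Fintype ι) (_ : DecidableEq ι) (Φ : V ≃ₗ[K] (ι ⊕ κ → K)) (L U : Matrix ι ι K)
    (Q : Matrix ι κ K) (R : Matrix κ ι K) (E : Matrix κ κ K),
    Fintype.card ι = j ∧ (∀ v, Φ (M v) = Matrix.fromBlocks (L * U) (L * Q) (R * U) (R * Q + E) *ᵥ Φ v) ∧
    (L - 1) ^ j = 0 ∧ (U - 1) ^ j = 0 ∧ L.det = 1 ∧ U.det = 1 ∧
    (0 < j → (L - 1) ^ (j - 1) *ᵥ (Φ c ∘ Sum.inl) ≠ 0 ∧
      ∃ x : ι → K, b (Φ.symm (Sum.elim ((U - 1) ^ (j - 1) *ᵥ x) 0)) ≠ 0) ∧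
    Pr E

theorem dot_single {ι : Type*} [Fintype ι] [DecidableEq ι] (l : (ι → K) →ₗ[K] K) (y : ι → K) :
    (fun i => l (Pi.single i 1)) ⬝ᵥ y = l y := by
  conv_rhs => rw [pi_eq_sum_univ' y, map_sum]
  refine Finset.sum_congr rfl fun i _ => ?_
  rw [map_smul, smul_eq_mul, mul_comm]

theorem lower_pow {ι : Type*} [Fintype ι] [DecidableEq ι] (C : Matrix ι Unit K) (N : Matrix ι ι K) (k : ℕ) :
    (Matrix.fromBlocks (0 : Matrix Unit Unit K) 0 C N) ^ (k + 1) = Matrix.fromBlocks 0 0 (N ^ k * C) (N ^ (k + 1)) := by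
  induction k with
  | zero => simp
  | succ k ih =>
    rw [pow_succ', ih, Matrix.fromBlocks_multiply, pow_succ' N (k + 1)]
    simp [pow_succ' N k, Matrix.mul_assoc]

theorem upper_pow {ι : Type*} [Fintype ι] [DecidableEq ι] (B : Matrix Unit ι K) (N : Matrix ι ι K) (k : ℕ) :
    (Matrix.fromBlocks (0 : Matrix Unit Unit K) B 0 N) ^ (k + 1) = Matrix.fromBlocks 0 (B * N ^ k) 0 (N ^ (k + 1)) := by
  induction k with
  | zero => simp
  | succ k ih =>
    rw [pow_succ, ih, Matrix.fromBlocks_multiply, pow_succ N (k + 1)]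
    simp [pow_succ N k, Matrix.mul_assoc]

theorem Split.step {κ : Type} [Fintype κ] [DecidableEq κ] {Pr : Matrix κ κ K → Prop} {M : Module.End K V} {j : ℕ}
    {e c : V} {b f : V →ₗ[K] K} (hfe : f e = 1) (hfM : f (M e) = 1) (hfc : f c ≠ 0) (hbe : b e ≠ 0)
    (G : Module.End K (LinearMap.ker f)) (hG : ∀ x : LinearMap.ker f, (G x : V) = M x - f (M x) • M e)
    (c' : LinearMap.ker f) (hc' : (c' : V) = M e - e)
    (h : Split G j c' ((f ∘ₗ M) ∘ₗ (LinearMap.ker f).subtype) Pr) : Split M (j + 1) c b Pr := by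
  obtain ⟨ι, _, _, Φ, L, U, Q, R, E, hcard, hΦ, hL, hU, hLd, hUd, hend, hE⟩ := h
  set β : LinearMap.ker f →ₗ[K] K := (f ∘ₗ M) ∘ₗ (LinearMap.ker f).subtype with hβ
  set π := RegUnipProd.proj e f hfe with hπ
  let Φ' : V ≃ₗ[K] ((Unit ⊕ ι) ⊕ κ → K) :=
    { toFun := fun v => Sum.elim (Sum.elim (fun _ => f v) (Φ (π v) ∘ Sum.inl)) (Φ (π v) ∘ Sum.inr)
      map_add' := fun v w => by funext i; rcases i with (i | i) | i <;> simp
      map_smul' := fun r v => by funext i; rcases i with (i | i) | i <;> simp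
      invFun := fun y => y (Sum.inl (Sum.inl ())) • e +
        (Φ.symm (Sum.elim (fun i => y (Sum.inl (Sum.inr i))) (fun k => y (Sum.inr k))) : V)
      left_inv := fun v => by
        simp only [Sum.elim_inl, Sum.elim_inr, Function.comp_apply]
        rw [show Sum.elim (fun i => Φ (π v) (Sum.inl i)) (fun k => Φ (π v) (Sum.inr k)) = Φ (π v) from
          Sum.elim_comp_inl_inr _, LinearEquiv.symm_apply_apply, hπ, RegUnipProd.coe_proj]
        abel
      right_inv := fun y => by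
        have hx : ∀ x : LinearMap.ker f, f (x : V) = 0 := fun x => x.2
        funext i
        rcases i with (i | i) | i <;>
          simp [hπ, hfe, hx, RegUnipProd.proj_self, RegUnipProd.proj_coe] }
  set l : (ι ⊕ κ → K) →ₗ[K] K := β ∘ₗ (Φ.symm : (ι ⊕ κ → K) →ₗ[K] LinearMap.ker f) with hl
  set b1 : ι → K := fun i => l (Pi.single (Sum.inl i) 1) with hb1
  set b2 : κ → K := fun i => l (Pi.single (Sum.inr i) 1) with hb2
  have hbdot : ∀ y : ι ⊕ κ → K, b1 ⬝ᵥ (y ∘ Sum.inl) + b2 ⬝ᵥ (y ∘ Sum.inr) = l y := fun y => by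
    conv_rhs => rw [← dot_single l y]
    simp [dotProduct, Fintype.sum_sum_type, hb1, hb2]
  set L' : Matrix (Unit ⊕ ι) (Unit ⊕ ι) K := Matrix.fromBlocks 1 0 (Matrix.replicateCol Unit (Φ c' ∘ Sum.inl)) L with hL'
  set U' : Matrix (Unit ⊕ ι) (Unit ⊕ ι) K := Matrix.fromBlocks 1 (Matrix.replicateRow Unit b1) 0 U with hU'
  set Q' : Matrix (Unit ⊕ ι) κ K := Matrix.fromRows (Matrix.replicateRow Unit b2) Q with hQ'
  set R' : Matrix κ (Unit ⊕ ι) K := Matrix.fromCols (Matrix.replicateCol Unit (Φ c' ∘ Sum.inr)) R with hR'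
  have hL1 : L' - 1 = Matrix.fromBlocks (0 : Matrix Unit Unit K) 0 (Matrix.replicateCol Unit (Φ c' ∘ Sum.inl)) (L - 1) := by
    rw [hL', ← Matrix.fromBlocks_one]; ext (i | i) (k | k) <;> simp [Matrix.one_apply]
  have hU1 : U' - 1 = Matrix.fromBlocks (0 : Matrix Unit Unit K) (Matrix.replicateRow Unit b1) 0 (U - 1) := by
    rw [hU', ← Matrix.fromBlocks_one]; ext (i | i) (k | k) <;> simp [Matrix.one_apply]
  refine ⟨Unit ⊕ ι, inferInstance, inferInstance, Φ', L', U', Q', R', E, by simp [hcard, add_comm], ?_, ?_, ?_, ?_, ?_,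
    fun _ => ⟨?_, ?_⟩, hE⟩
  · intro v
    set x := π v with hx
    set s := f v + β x with hs
    have hv : v = f v • e + (x : V) := by rw [hx, hπ, RegUnipProd.coe_proj]; abel
    have hMv : M v = s • e + ((s • c' + G x : LinearMap.ker f) : V) := by
      conv_lhs => rw [hv]
      simp only [map_add, map_smul, Submodule.coe_add, Submodule.coe_smul, hG, hc', hs, hβ, LinearMap.comp_apply,
        Submodule.coe_subtype]
      module
    have h1 : f (M v) = s := by rw [hMv]; simp [hfe]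
    have h2 : π (M v) = s • c' + G x := by
      rw [hMv, hπ, map_add, map_smul, RegUnipProd.proj_self, smul_zero, zero_add, RegUnipProd.proj_coe]
    have hin := hΦ x
    rw [Matrix.fromBlocks_mulVec] at hin
    have hU'v : U' *ᵥ (Φ' v ∘ Sum.inl) + Q' *ᵥ (Φ' v ∘ Sum.inr) =
        Sum.elim (fun _ => s) (U *ᵥ (Φ x ∘ Sum.inl) + Q *ᵥ (Φ x ∘ Sum.inr)) := by
      rw [hU', hQ', show Φ' v ∘ Sum.inl = Sum.elim (fun _ => f v) (Φ x ∘ Sum.inl) from rfl,
        show Φ' v ∘ Sum.inr = Φ x ∘ Sum.inr from rfl, Matrix.fromBlocks_mulVec, Matrix.fromRows_mulVec]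
      funext i
      rcases i with i | i
      · have : β x = l (Φ x) := by simp [hl]
        simp only [Pi.add_apply, Sum.elim_inl, Sum.elim_comp_inl, Sum.elim_comp_inr, Matrix.one_mulVec, hs, this, ← hbdot,
          Matrix.mulVec, Matrix.replicateRow_apply, Function.comp_apply]
        simp [dotProduct]; ring
      · simp
    rw [Matrix.fromBlocks_mulVec]
    show Sum.elim (Sum.elim (fun _ => f (M v)) (Φ (π (M v)) ∘ Sum.inl)) (Φ (π (M v)) ∘ Sum.inr) = _
    rw [h1, h2, map_add, map_smul, hin]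
    congr 1
    · conv_rhs => rw [← Matrix.mulVec_mulVec, ← Matrix.mulVec_mulVec, ← Matrix.mulVec_add, hU'v, hL', Matrix.fromBlocks_mulVec]
      funext i
      rcases i with i | i
      · simp
      · simp [Matrix.mulVec_add, ← Matrix.mulVec_mulVec, Matrix.mulVec, dotProduct]; ring
    · conv_rhs => rw [Matrix.add_mulVec, ← Matrix.mulVec_mulVec, ← Matrix.mulVec_mulVec, ← add_assoc, ← Matrix.mulVec_add,
        hU'v, hR', Matrix.fromCols_mulVec]
      funext i
      simp [Matrix.mulVec_add, Matrix.add_mulVec, ← Matrix.mulVec_mulVec, Matrix.mulVec, dotProduct,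
        show Φ' v ∘ Sum.inr = Φ x ∘ Sum.inr from rfl]
      ring
  · rw [hL1, lower_pow, hL, pow_succ', hL, mul_zero, Matrix.zero_mul, Matrix.fromBlocks_zero]
  · rw [hU1, upper_pow, hU, pow_succ', hU, mul_zero, Matrix.mul_zero, Matrix.fromBlocks_zero]
  · rw [hL', Matrix.det_fromBlocks_zero₁₂, Matrix.det_one, hLd, one_mul]
  · rw [hU', Matrix.det_fromBlocks_zero₂₁, Matrix.det_one, hUd, one_mul]
  · rw [Nat.add_sub_cancel]
    rcases Nat.eq_zero_or_pos j with rfl | hj
    · intro h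
      exact hfc (by simpa [Φ'] using congrFun h (Sum.inl ()))
    · obtain ⟨hcj, -⟩ := hend hj
      obtain ⟨k, rfl⟩ : ∃ k, j = k + 1 := ⟨j - 1, by omega⟩
      rw [Nat.add_sub_cancel] at hcj
      rw [hL1, lower_pow, hL, Matrix.fromBlocks_mulVec]
      intro h
      apply hcj
      funext i
      have hi := congrFun h (Sum.inr i)
      have : ((L - 1) ^ k * Matrix.replicateCol Unit (Φ c' ∘ Sum.inl)) *ᵥ (fun _ => f c) =
          f c • ((L - 1) ^ k *ᵥ (Φ c' ∘ Sum.inl)) := by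
        funext i; simp [Matrix.mulVec, dotProduct, Matrix.mul_apply, Finset.mul_sum, mul_comm]
      simp only [Sum.elim_inr, Pi.add_apply, Matrix.zero_mulVec, add_zero, Pi.zero_apply] at hi
      rw [show ((Φ' c ∘ Sum.inl) ∘ Sum.inl : Unit → K) = fun _ => f c from rfl, this, Pi.smul_apply, smul_eq_mul] at hi
      exact (mul_eq_zero.1 hi).resolve_left hfc
  · rw [Nat.add_sub_cancel]
    have hsym : ∀ r : K, Φ'.symm (Sum.elim (Sum.elim (fun _ => r) (0 : ι → K)) (0 : κ → K)) = r • e := fun r => by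
      show r • e + ((Φ.symm _ : LinearMap.ker f) : V) = r • e
      have : (Sum.elim (fun i : ι => (0 : ι → K) i) fun k : κ => (0 : κ → K) k) = 0 := by
        funext i; rcases i with i | i <;> rfl
      show r • e + ((Φ.symm (Sum.elim (fun i : ι => (0 : ι → K) i) fun k : κ => (0 : κ → K) k) : LinearMap.ker f) : V) = r • e
      rw [this, map_zero, Submodule.coe_zero, add_zero]
    rcases Nat.eq_zero_or_pos j with rfl | hj
    · haveI : IsEmpty ι := Fintype.card_eq_zero_iff.1 hcard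
      refine ⟨Sum.elim (fun _ => 1) 0, ?_⟩
      rw [pow_zero, Matrix.one_mulVec, hsym, map_smul, one_smul]
      exact hbe
    · obtain ⟨-, x, hx⟩ := hend hj
      obtain ⟨k, rfl⟩ : ∃ k, j = k + 1 := ⟨j - 1, by omega⟩
      rw [Nat.add_sub_cancel] at hx
      refine ⟨Sum.elim (fun _ => 0) x, ?_⟩
      have hv : (U' - 1) ^ (k + 1) *ᵥ Sum.elim (fun _ => 0) x = Sum.elim (fun _ => b1 ⬝ᵥ ((U - 1) ^ k *ᵥ x)) 0 := by
        rw [hU1, upper_pow, hU, Matrix.fromBlocks_mulVec, ← Matrix.mulVec_mulVec]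
        funext i
        rcases i with i | i
        · simp [Matrix.mulVec, dotProduct, Matrix.mul_apply, Finset.mul_sum, Finset.sum_mul]
          rw [Finset.sum_comm]
          simp [mul_assoc]
        · simp
      rw [hv, hsym, map_smul, smul_eq_mul]
      refine mul_ne_zero ?_ hbe
      have := hbdot (Sum.elim ((U - 1) ^ k *ᵥ x) 0)
      simp only [Sum.elim_comp_inl, Sum.elim_comp_inr, dotProduct_zero, add_zero] at this
      rw [this]
      simpa [hl] using hx

end CfsgLib.SLCommutator
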