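import Cfsg.Agent.Lib.SLCommutator.Two
import Cfsg.Agent.Lib.SLCommutator.Chain
import Cfsg.Agent.Lib.RegUnipProd.Matrix
import Cfsg.Agent.Lib.CentralizerDet

/-! Scalars, transvections and the general element over fields with at least four elements. -/

set_option autoImplicit false
set_option linter.unusedSectionVars false

namespace CfsgLib.SLCommutator

open Matrix Module Polynomial

universe u v

variable {K : Type u} [Field K]

theorem regular_inv {ι : Type*} [Fintype ι] [DecidableEq ι] {U : (Matrix ι ι K)ˣ} {k : ℕ} :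
    ((↑U⁻¹ : Matrix ι ι K) - 1) ^ k = (-(↑U⁻¹ : Matrix ι ι K)) ^ k * ((U : Matrix ι ι K) - 1) ^ k := by
  have e : (↑U⁻¹ : Matrix ι ι K) - 1 = -(↑U⁻¹ : Matrix ι ι K) * ((U : Matrix ι ι K) - 1) := by
    rw [neg_mul, mul_sub, Units.inv_mul, mul_one, neg_sub]
  have hc : Commute (-(↑U⁻¹ : Matrix ι ι K)) ((U : Matrix ι ι K) - 1) :=
    (((Commute.refl (U : Matrix ι ι K)).units_inv_left).sub_right (Commute.one_right _)).neg_left
  rw [e, hc.mul_pow]

theorem regular_sim {ι : Type*} [Fintype ι] [DecidableEq ι] {j : ℕ} (hj : Fintype.card ι = j) {L U : Matrix ι ι K}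
    (hL : (L - 1) ^ j = 0) (hU : (U - 1) ^ j = 0) (hne : 0 < j → (L - 1) ^ (j - 1) ≠ 0 ∧ (U - 1) ^ (j - 1) ≠ 0)
    (hUd : U.det = 1) : ∃ P : (Matrix ι ι K)ˣ, L * P.1 * U = P.1 := by
  rcases Nat.eq_zero_or_pos j with rfl | h0
  · haveI := Fintype.card_eq_zero_iff.1 hj
    exact ⟨1, Subsingleton.elim _ _⟩
  obtain ⟨hL', hU'⟩ := hne h0
  obtain ⟨Ui, rfl⟩ : ∃ Ui : (Matrix ι ι K)ˣ, Ui.1 = U :=
    (Matrix.isUnit_iff_isUnit_det U).2 (by rw [hUd]; exact isUnit_one)
  let eι := Fintype.equivFinOfCardEq hj
  let r := Matrix.reindexAlgEquiv K K eι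
  have tr : ∀ A : Matrix ι ι K, ∀ k, (A - 1) ^ k = 0 ↔ (r A - 1) ^ k = 0 := fun A k => by
    rw [← map_one r, ← map_sub, ← map_pow, map_eq_zero_iff _ r.injective]
  have hV : ((↑Ui⁻¹ : Matrix ι ι K) - 1) ^ j = 0 := by rw [regular_inv, hU, mul_zero]
  have hV' : ((↑Ui⁻¹ : Matrix ι ι K) - 1) ^ (j - 1) ≠ 0 := by
    rw [regular_inv]
    intro h
    obtain ⟨w, hw⟩ := (Ui⁻¹.isUnit.neg).pow (j - 1)
    rw [← hw] at h
    exact hU' (by simpa using congrArg (fun A => (↑w⁻¹ : Matrix ι ι K) * A) h)
  obtain ⟨x, hx⟩ := RegUnipProd.exists_conj_shift (r L) ((tr L j).1 hL) fun h => hL' ((tr L _).2 h)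
  obtain ⟨z, hz⟩ := RegUnipProd.exists_conj_shift (r (↑Ui⁻¹ : Matrix ι ι K)) ((tr _ j).1 hV) fun h => hV' ((tr _ _).2 h)
  obtain ⟨P, hP⟩ : ∃ P : (Matrix ι ι K)ˣ, r P.1 = (x * z⁻¹ : GL (Fin j) K).1 :=
    ⟨Units.map (r.symm : Matrix (Fin j) (Fin j) K →* Matrix ι ι K) (x * z⁻¹), by simp⟩
  refine ⟨P, r.injective ?_⟩
  have hVU : r (↑Ui⁻¹ : Matrix ι ι K) * r Ui.1 = 1 := by rw [← map_mul, Units.inv_mul, map_one]
  rw [map_mul, map_mul, hP]
  calc r L * (x * z⁻¹ : GL (Fin j) K).1 * r Ui.1
      = x.1 * (1 + RegUnipProd.shiftUp) * (↑z⁻¹ : Matrix (Fin j) (Fin j) K) * r Ui.1 := by rw [hx]; simp [mul_assoc]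
    _ = (x * z⁻¹ : GL (Fin j) K).1 * (r (↑Ui⁻¹ : Matrix ι ι K) * r Ui.1) := by rw [hz]; simp [mul_assoc]
    _ = _ := by rw [hVU, mul_one]

theorem Split.opGood [Fintype K] {κ : Type} [Fintype κ] [DecidableEq κ] {V : Type v} [AddCommGroup V] [Module K V]
    {M : Module.End K V} {j : ℕ} {c : V} {b : V →ₗ[K] K} {Pr : Matrix κ κ K → Prop} (h : Split M j c b Pr)
    (hPr : ∀ E, Pr E → Last E) : OpGood M := by
  obtain ⟨ι, _, _, Φ, L, U, Q, R, E, hcard, hΦ, hL, hU, -, hUd, hend, hE⟩ := h
  have hsim := regular_sim hcard hL hU (fun h0 => ⟨fun e => (hend h0).1 (by rw [e, Matrix.zero_mulVec]),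
    fun e => by
      obtain ⟨-, x, hx⟩ := hend h0
      refine hx ?_
      rw [e, Matrix.zero_mulVec, show (Sum.elim (0 : ι → K) (0 : κ → K)) = 0 from by funext i; rcases i <;> rfl,
        map_zero, map_zero]⟩) hUd
  refine ((hPr E hE).good hL hU hUd hsim (Q := Q) (R := R)).opGood.conj Φ.symm M fun y => ?_
  rw [Matrix.toLin'_apply, LinearEquiv.eq_symm_apply, hΦ, LinearEquiv.apply_symm_apply]

/-- The two-dimensional remainders. -/
def EndTwo (E : Matrix (Fin 2) (Fin 2) K) : Prop := E.det = 1 ∧ (∀ x : K, E ≠ x • 1) ∧ E.trace ≠ 2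

theorem split_two {V : Type v} [AddCommGroup V] [Module K V] [FiniteDimensional K V] {κ : Type} [Fintype κ]
    [DecidableEq κ] (M : Module.End K V) (B : Module.Basis κ K V) (c : V) (b : V →ₗ[K] K)
    {Pr : Matrix κ κ K → Prop} (hPr : Pr (LinearMap.toMatrix B B M)) : Split M 0 c b Pr := by
  refine ⟨Empty, inferInstance, inferInstance,
    B.equivFun ≪≫ₗ LinearEquiv.funCongrLeft K K (Equiv.emptySum Empty κ), 0, 0, 0, 0, LinearMap.toMatrix B B M,
    rfl, fun v => ?_, Subsingleton.elim _ _, Subsingleton.elim _ _, Matrix.det_isEmpty, Matrix.det_isEmpty,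
    fun h => absurd h (lt_irrefl 0), hPr⟩
  funext i
  rcases i with i | i
  · exact i.elim
  · have := congrFun (LinearMap.toMatrix_mulVec_repr B B M v) i
    simp [Matrix.mulVec, dotProduct, Matrix.fromBlocks, Fintype.sum_sum_type, Module.Basis.equivFun_apply] at this ⊢
    rw [← this]

theorem generic_split (h4 : ∃ k : Fin 4 → K, Function.Injective k) :
    ∀ (j : ℕ) {V : Type v} [AddCommGroup V] [Module K V] [FiniteDimensional K V] (M : Module.End K V),
      finrank K V = j + 2 → LinearMap.det M = 1 → 2 ≤ finrank K (LinearMap.range (M - 1)) →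
      (¬ ∃ s : K, M = s • 1) → ∀ (c : V) (b : V →ₗ[K] K), c ≠ 0 → b ≠ 0 → Split M j c b EndTwo := by
  intro j
  induction j with
  | zero =>
    intro V _ _ _ M hfin hdet hr hns c b _ _
    let B := Module.finBasisOfFinrankEq K V hfin
    refine split_two M B c b ⟨by rw [LinearMap.det_toMatrix, hdet], fun x hx => hns ⟨x, ?_⟩, fun ht => ?_⟩
    · apply (LinearMap.toMatrix B B).injective
      rw [hx, map_smul, LinearMap.toMatrix_one]
    · have htop : LinearMap.range (M - 1) = ⊤ := Submodule.eq_top_of_finrank_eq (by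
        have := Submodule.finrank_le (LinearMap.range (M - 1)); omega)
      have hu : IsUnit (LinearMap.det (M - 1)) := LinearMap.isUnit_det _
        ((Module.End.isUnit_iff _).2 ⟨LinearMap.injective_iff_surjective.2 (LinearMap.range_eq_top.1 htop),
          LinearMap.range_eq_top.1 htop⟩)
      refine hu.ne_zero ?_
      rw [← LinearMap.det_toMatrix B, map_sub, LinearMap.toMatrix_one, Matrix.det_fin_two]
      rw [Matrix.trace_fin_two] at ht
      rw [← LinearMap.det_toMatrix B, Matrix.det_fin_two] at hdet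
      simp
      linear_combination hdet - ht
  | succ j ih =>
    intro V _ _ _ M hfin hdet hr hns c b hc hb
    obtain ⟨e, f, hfe, hfM, hbe, hfc, hMe, ⟨y, hy⟩, hgood'⟩ := RegUnipProd.choose_ef h4 M hdet hr hns hc hb
    set W := LinearMap.ker f with hW
    set π := RegUnipProd.proj e f hfe with hπ
    set β : W →ₗ[K] K := (f ∘ₗ M) ∘ₗ W.subtype with hβ
    have hWfin : finrank K W = j + 2 := by
      have h := LinearMap.finrank_range_add_finrank_ker f
      have hsurj : LinearMap.range f = ⊤ := LinearMap.range_eq_top.mpr fun t => ⟨t • e, by simp [hfe]⟩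
      rw [hsurj, finrank_top, finrank_self, hfin] at h
      show finrank K (LinearMap.ker f) = j + 2
      omega
    let G : Module.End K W := LinearMap.codRestrict W (M ∘ₗ W.subtype - β.smulRight (M e)) fun x => by
      simp [hW, hβ, hfM]
    have hG : ∀ x : W, (G x : V) = M x - f (M x) • M e := fun x => rfl
    let c' : W := ⟨M e - e, by simp [hW, hfM, hfe]⟩
    have hc' : c' ≠ 0 := fun h => hMe (sub_eq_zero.mp (congrArg Subtype.val h))
    have hβ0 : β ≠ 0 := fun h => hy (by
      have := LinearMap.congr_fun h (π y)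
      simp only [hβ, LinearMap.comp_apply, Submodule.coe_subtype, hπ, RegUnipProd.coe_proj, map_sub, map_smul,
        smul_eq_mul, hfM, mul_one, LinearMap.zero_apply] at this
      rw [map_sub]; exact this)
    have hπe : π e = 0 := RegUnipProd.proj_self e f hfe
    have hπx : ∀ x : W, π x = x := RegUnipProd.proj_coe e f hfe
    have hfW : ∀ x : W, f x = 0 := fun x => LinearMap.mem_ker.mp x.2
    have hdetG : LinearMap.det G = 1 := by
      have hdec : M = RegUnipProd.ext e f hfe 1 (M e) * RegUnipProd.ext e f hfe G e * (1 + (β ∘ₗ π).smulRight e) := by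
        refine LinearMap.ext fun v => ?_
        have e1 : (1 + (β ∘ₗ π).smulRight e) v = v + β (π v) • e := by simp
        have e2 : RegUnipProd.ext e f hfe G e (v + β (π v) • e) = (f v + β (π v)) • e + (G (π v) : V) := by
          rw [RegUnipProd.ext_apply, show RegUnipProd.proj e f hfe = π from rfl, map_add, map_add, map_smul, map_smul,
            hπe, smul_zero, add_zero, hfe, smul_eq_mul, mul_one]
        rw [Module.End.mul_apply, Module.End.mul_apply, e1, e2, RegUnipProd.ext_apply,
          show RegUnipProd.proj e f hfe = π from rfl, map_add,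
          map_add, map_smul, map_smul, hπe, smul_zero, zero_add, hfe, smul_eq_mul, mul_one, hfW, add_zero, hπx,
          Module.End.one_apply, hG]
        simp only [hβ, hπ, LinearMap.comp_apply, Submodule.coe_subtype, RegUnipProd.coe_proj, map_sub, map_smul,
          smul_eq_mul, hfM, mul_one]
        module
      have h1 : LinearMap.det (RegUnipProd.ext e f hfe (1 : Module.End K W) (M e)) = 1 := by
        have : RegUnipProd.ext e f hfe (1 : Module.End K W) (M e) = 1 + f.smulRight (M e - e) := LinearMap.ext fun v => by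
          simp [RegUnipProd.ext_apply, RegUnipProd.coe_proj, smul_sub]; abel
        rw [this]
        exact RegUnipProd.det_one_add_sq_zero _ (LinearMap.ext fun v => by simp [hfM, hfe])
      have h2 : LinearMap.det (1 + (β ∘ₗ π).smulRight e) = 1 :=
        RegUnipProd.det_one_add_sq_zero _ (LinearMap.ext fun v => by simp [hπe])
      have h3 : LinearMap.det M = 1 := hdet
      rw [hdec, map_mul, map_mul, h1, h2, RegUnipProd.det_ext, one_mul, mul_one] at h3
      exact h3
    obtain ⟨hP, hS⟩ := hgood' (by omega)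
    have hker : finrank K (LinearMap.ker (G - 1)) + 3 ≤ finrank K V := by
      refine le_trans (Nat.add_le_add_right ?_ 3) hP
      rw [← Submodule.finrank_map_subtype_eq]
      refine Submodule.finrank_mono ?_
      rintro _ ⟨x, hx, rfl⟩
      refine ⟨Submodule.mem_comap.mpr (Submodule.mem_span_singleton.mpr ⟨f (M x), ?_⟩), x.2⟩
      have := congrArg Subtype.val (LinearMap.mem_ker.mp hx)
      simp only [LinearMap.sub_apply, Module.End.one_apply, Submodule.coe_sub, hG, Submodule.coe_zero,
        Submodule.coe_subtype] at this ⊢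
      rw [← sub_eq_zero]
      linear_combination (norm := module) -this
    have h2 : 2 ≤ finrank K (LinearMap.range (G - 1)) := by
      have := LinearMap.finrank_range_add_finrank_ker (G - 1)
      omega
    have hGns : ¬ ∃ s : K, G = s • 1 := by
      rintro ⟨s, hs⟩
      by_cases hs1 : s = 1
      · rw [hs, hs1, one_smul, sub_self, LinearMap.range_zero, finrank_bot] at h2
        omega
      refine hS s hs1 ?_ fun x hx => ?_
      · rw [hs, LinearMap.det_smul, show LinearMap.det (1 : Module.End K W) = 1 from map_one _, mul_one, hWfin] at hdetG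
        rwa [show finrank K V - 1 = j + 2 by omega]
      · have := congrArg Subtype.val (LinearMap.congr_fun hs ⟨x, hx⟩)
        rw [hG] at this
        simp only [LinearMap.smul_apply, Module.End.one_apply, Submodule.coe_smul] at this
        rw [Submodule.mem_comap, RegUnipProd.sub_smul_one_apply, Submodule.mem_span_singleton]
        exact ⟨f (M x), by rw [← this]; abel⟩
    exact Split.step hfe hfM hfc hbe G hG c' rfl (ih G hWfin hdetG h2 hGns c' β hc' hβ0)

theorem last_of_endTwo [Fintype K] (hq : 4 ≤ Fintype.card K) (E : Matrix (Fin 2) (Fin 2) K) (h : EndTwo E) : Last E :=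
  last_two h.1 h.2.1 h.2.2 (Or.inl hq)

theorem transvection_good [Fintype K] (hq : 4 ≤ Fintype.card K) : Good (!![1, 1; 0, 1] : Matrix (Fin 2) (Fin 2) K) := by
  classical
  obtain ⟨t, ht⟩ := Finset.exists_mem_notMem_of_card_lt_card (s := ({0, 1, -1} : Finset K)) (t := Finset.univ)
    (lt_of_le_of_lt Finset.card_le_three (show 3 < Finset.card Finset.univ by rw [Finset.card_univ]; omega))
  simp only [Finset.mem_insert, Finset.mem_singleton, not_or, Finset.mem_univ, true_and] at ht
  obtain ⟨h0, h1, h1'⟩ := ht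
  have hd : t * t - 1 ≠ 0 := fun e => by
    rcases mul_eq_zero.1 (show (t - 1) * (t + 1) = 0 by linear_combination e) with e | e
    · exact h1 (sub_eq_zero.1 e)
    · exact h1' (eq_neg_of_add_eq_zero_left e)
  refine ⟨!![t, 0; 0, t⁻¹], !![1, (t * t - 1)⁻¹; 0, 1], by simp [Matrix.det_fin_two_of, h0],
    by simp [Matrix.det_fin_two_of], ?_⟩
  ext i j
  have hd' : -1 + t ^ 2 ≠ 0 := fun e => hd (by linear_combination e)
  fin_cases i <;> fin_cases j <;> simp [Matrix.mul_apply, Fin.sum_univ_two] <;> field_simp <;> ring_nf <;>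
    linear_combination -(inv_mul_cancel₀ hd')

/-- Scalars of determinant one. -/
theorem scalar_block [Fintype K] {z : K} {k : ℕ} (hz : IsPrimitiveRoot z k) (hk : 0 < k) :
    OpGood (z • 1 : Module.End K (Fin k → K)) := by
  classical
  haveI : NeZero k := ⟨hk.ne'⟩
  have hz0 : z ≠ 0 := hz.ne_zero hk.ne'
  set σ : Equiv.Perm (Fin k) := Equiv.subRight 1 with hσ
  set c : K := ((Equiv.Perm.sign σ : ℤ) : K) with hc
  have hcc : c * c = 1 := by rw [hc, ← Int.cast_mul, ← Units.val_mul, Int.units_mul_self, Units.val_one, Int.cast_one]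
  set w : Fin k → K := fun i => if i = 0 then c else 1 with hw
  set A : Matrix (Fin k) (Fin k) K := Matrix.diagonal w * σ.permMatrix K with hA
  have hAd : A.det = 1 := by
    rw [hA, Matrix.det_mul, Matrix.det_diagonal, Matrix.det_permutation, hw, Fintype.prod_ite_eq', ← hc, hcc]
  set a := Matrix.toLin' A with ha
  have happ : ∀ y i, a y i = w i * y (i - 1) := fun y i => by
    rw [ha, Matrix.toLin'_apply, hA, ← Matrix.mulVec_mulVec, Matrix.mulVec_diagonal]
    simp [Matrix.mulVec, dotProduct, PEquiv.toMatrix_apply, hσ]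
  set D := Matrix.toLin' (Matrix.diagonal fun i : Fin k => z ^ (i : ℕ)) with hD
  have hDapp : ∀ y i, D y i = z ^ (i : ℕ) * y i := fun y i => by
    rw [hD, Matrix.toLin'_apply, Matrix.mulVec_diagonal]
  have hDa : z • (a * D) = D * a := by
    refine LinearMap.ext fun y => funext fun i => ?_
    simp only [LinearMap.smul_apply, Module.End.mul_apply, Pi.smul_apply, smul_eq_mul, happ, hDapp]
    have : z * z ^ ((i - 1 : Fin k) : ℕ) = z ^ (i : ℕ) := by
      rw [← pow_succ']
      refine pow_eq_pow_of_modEq (Nat.ModEq.symm ?_) hz.pow_eq_one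
      unfold Nat.ModEq
      have := congrArg Fin.val (sub_add_cancel i 1)
      rw [Fin.val_add] at this
      rw [Nat.mod_eq_of_lt i.2]
      conv_lhs => rw [← this]
      rcases Nat.lt_or_ge 1 k with hk1 | hk1
      · rw [Fin.val_one', Nat.mod_eq_of_lt hk1]
      · obtain rfl : k = 1 := by omega
        simp [Nat.mod_one]
    linear_combination (w i * y (i - 1)) * this
  have hsep : (X ^ k - C c : K[X]).Separable := by
    refine separable_X_pow_sub_C c ?_ (fun e => by simp [e] at hcc)
    intro e
    have hdvd : k ∣ Fintype.card K - 1 := by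
      have := Fintype.card_units (α := K)
      rw [← this, hz.eq_orderOf]
      conv_lhs => rw [show z = ((Units.mk0 z hz0 : Kˣ) : K) from rfl, orderOf_units]
      exact orderOf_dvd_card
    obtain ⟨m, hm⟩ := hdvd
    have h1 := congrArg (Nat.cast : ℕ → K) hm
    rw [Nat.cast_mul, e, zero_mul, Nat.cast_sub Fintype.card_pos, Nat.cast_card_eq_zero, Nat.cast_one, zero_sub,
      neg_eq_zero] at h1
    exact one_ne_zero h1
  have hak : aeval a (X ^ k - C c : K[X]) = 0 := by
    have key : ∀ (m : ℕ) (y : Fin k → K) (i : Fin k),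
        (a ^ m) y i = (∏ l ∈ Finset.range m, w (i - (Fin.ofNat k l))) * y (i - Fin.ofNat k m) := by
      intro m
      induction m with
      | zero => intro y i; simp [Fin.ofNat]
      | succ m ih =>
        intro y i
        rw [pow_succ', Module.End.mul_apply, happ, ih, Finset.prod_range_succ']
        have : ∀ l : ℕ, i - 1 - Fin.ofNat k l = i - Fin.ofNat k (l + 1) := fun l => by
          have : Fin.ofNat k (l + 1) = Fin.ofNat k l + 1 := by
            apply Fin.ext
            simp [Fin.val_add, Fin.val_ofNat]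
          rw [this]; abel
        rw [show Fin.ofNat k 0 = 0 by simp [Fin.ofNat], sub_zero, this]
        simp only [this]
        ring
    refine LinearMap.ext fun y => funext fun i => ?_
    rw [map_sub, map_pow, aeval_X, aeval_C, LinearMap.sub_apply, Pi.sub_apply, key]
    have hkk : Fin.ofNat k k = 0 := by apply Fin.ext; simp [Fin.val_ofNat]
    have hprod : (∏ l ∈ Finset.range k, w (i - Fin.ofNat k l)) = c := by
      rw [Finset.prod_range fun l => w (i - Fin.ofNat k l)]
      rw [Fintype.prod_equiv (Equiv.subLeft i) (fun l : Fin k => w (i - Fin.ofNat k (l : ℕ))) w (fun l => by simp), hw,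
        Fintype.prod_ite_eq']
    rw [hkk, hprod, sub_zero]
    simp [Algebra.algebraMap_eq_smul_one]
  haveI : Nontrivial (Fin k → K) := inferInstance
  have hss : Module.End.IsSemisimple a := Module.End.isSemisimple_of_squarefree_aeval_eq_zero hsep.squarefree hak
  have hDd : LinearMap.det D ≠ 0 := by
    rw [hD, LinearMap.det_toLin', Matrix.det_diagonal]
    exact Finset.prod_ne_zero_iff.2 fun i _ => pow_ne_zero _ hz0
  obtain ⟨ζ, hζ, hζd⟩ := CentralizerDet.exists_det_of_semisimple a hss (Units.mk0 (LinearMap.det D)⁻¹ (inv_ne_zero hDd))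
  refine ⟨D * ζ, a, ?_, by rw [ha, LinearMap.det_toLin', hAd], ?_⟩
  · rw [map_mul, hζd, Units.val_mk0, mul_inv_cancel₀ hDd]
  · rw [smul_mul_assoc, one_mul, ← mul_assoc a D, ← smul_mul_assoc, hDa, mul_assoc, ← hζ.eq, mul_assoc]

theorem scalar_good [Fintype K] {z : K} {k : ℕ} (hz : IsPrimitiveRoot z k) (hk : 0 < k) :
    ∀ (l : ℕ) {V : Type u} [AddCommGroup V] [Module K V] [FiniteDimensional K V], finrank K V = k * l →
      OpGood (z • 1 : Module.End K V) := by
  intro l
  induction l with
  | zero =>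
    intro V _ _ _ h
    haveI : Subsingleton V := Module.finrank_zero_iff.1 (by simpa using h)
    rw [show (z • 1 : Module.End K V) = 1 from LinearMap.ext fun v => Subsingleton.elim _ _]
    exact OpGood.one
  | succ l ih =>
    intro V _ _ _ h
    obtain ⟨e⟩ : Nonempty (((Fin k → K) × (Fin (k * l) → K)) ≃ₗ[K] V) :=
      FiniteDimensional.nonempty_linearEquiv_of_finrank_eq (by rw [Module.finrank_prod, Module.finrank_fin_fun,
        Module.finrank_fin_fun, h, Nat.mul_succ, add_comm])
    exact ((scalar_block hz hk).prod (ih (V := Fin (k * l) → K) (Module.finrank_fin_fun K))).conj e _ fun v => by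
      simp [Prod.smul_mk, ← map_smul]

theorem scalar_opGood [Fintype K] {V : Type u} [AddCommGroup V] [Module K V] [FiniteDimensional K V] {z : K}
    (hz : z ^ finrank K V = 1) : OpGood (z • 1 : Module.End K V) := by
  by_cases h0 : finrank K V = 0
  · haveI : Subsingleton V := Module.finrank_zero_iff.1 h0
    rw [show (z • 1 : Module.End K V) = 1 from LinearMap.ext fun v => Subsingleton.elim _ _]
    exact OpGood.one
  have hk : 0 < orderOf z := orderOf_pos_iff.2 (isOfFinOrder_iff_pow_eq_one.2 ⟨_, Nat.pos_of_ne_zero h0, hz⟩)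
  obtain ⟨l, hl⟩ := orderOf_dvd_of_pow_eq_one hz
  exact scalar_good (IsPrimitiveRoot.orderOf z) hk l hl

/-- A transvection. -/
theorem transvection_opGood [Fintype K] (hq : 4 ≤ Fintype.card K) {V : Type u} [AddCommGroup V] [Module K V]
    [FiniteDimensional K V] {φ : V →ₗ[K] K} {y : V} (hφ : φ ≠ 0) (hy : y ≠ 0) (hφy : φ y = 0) :
    OpGood (1 + φ.smulRight y) := by
  obtain ⟨w0, hw0⟩ : ∃ w, φ w ≠ 0 := by
    by_contra h; push Not at h; exact hφ (LinearMap.ext h)
  set w := (φ w0)⁻¹ • w0 with hw
  have hφw : φ w = 1 := by rw [hw, map_smul, smul_eq_mul, inv_mul_cancel₀ hw0]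
  obtain ⟨f, hfy, hfw⟩ := RegUnipProd.sep (p := Submodule.span K {w}) (x := y) (fun h => by
    obtain ⟨r, hr⟩ := Submodule.mem_span_singleton.1 h
    have : r = 0 := by
      have := congrArg φ hr
      rwa [map_smul, hφw, hφy, smul_eq_mul, mul_one] at this
    exact hy (by rw [← hr, this, zero_smul]))
  have hfw' : f w = 0 := hfw w (Submodule.mem_span_singleton_self w)
  set W := LinearMap.ker φ ⊓ LinearMap.ker f with hW
  let e : ((Fin 2 → K) × W) ≃ₗ[K] V :=
    { toFun := fun p => p.1 0 • y + p.1 1 • w + (p.2 : V)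
      map_add' := fun p p' => by simp only [Prod.fst_add, Prod.snd_add, Pi.add_apply, Submodule.coe_add, add_smul]; abel
      map_smul' := fun r p => by simp [smul_smul]
      invFun := fun v => (![f v, φ v], ⟨v - f v • y - φ v • w, by
        simp [hW, hφy, hφw, hfy, hfw']⟩)
      left_inv := fun p => by
        have h1 : φ (p.2 : V) = 0 := p.2.2.1
        have h2 : f (p.2 : V) = 0 := p.2.2.2
        refine Prod.ext ?_ (Subtype.ext ?_)
        · funext i; fin_cases i <;> simp [h1, h2, hφy, hφw, hfy, hfw']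
        · simp [h1, h2, hφy, hφw, hfy, hfw']; abel
      right_inv := fun v => by simp }
  refine ((transvection_good hq).opGood.prod (OpGood.one (V := W))).conj e _ fun p => ?_
  obtain ⟨u, x⟩ := p
  have h1 : φ (x : V) = 0 := x.2.1
  simp [e, hφy, hφw, h1, Matrix.mulVec, dotProduct, Fin.sum_univ_two]
  module

theorem opGood_large [Fintype K] (hq : 4 ≤ Fintype.card K) {V : Type u} [AddCommGroup V] [Module K V]
    [FiniteDimensional K V] (hn : 2 ≤ finrank K V) (M : Module.End K V) (hdet : LinearMap.det M = 1) : OpGood M := by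
  classical
  by_cases hns : ∃ s : K, M = s • 1
  · obtain ⟨s, rfl⟩ := hns
    refine scalar_opGood ?_
    rwa [LinearMap.det_smul, map_one, mul_one] at hdet
  rcases Nat.lt_or_ge (finrank K (LinearMap.range (M - 1))) 2 with hr | hr
  · have hne : LinearMap.range (M - 1) ≠ ⊥ := fun h => hns ⟨1, by
      rw [LinearMap.range_eq_bot, sub_eq_zero] at h; rw [h, one_smul]⟩
    obtain ⟨y, hy, hy0⟩ := Submodule.exists_mem_ne_zero_of_ne_bot hne
    obtain ⟨φ, hφ1, -⟩ := RegUnipProd.sep (p := (⊥ : Submodule K V)) (x := y) (by simpa using hy0)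
    have hspan : LinearMap.range (M - 1) = Submodule.span K {y} := (Submodule.eq_of_le_of_finrank_le
      ((Submodule.span_singleton_le_iff_mem _ _).mpr hy) (by rw [finrank_span_singleton hy0]; omega)).symm
    have hT : M = 1 + (φ ∘ₗ (M - 1)).smulRight y := by
      refine LinearMap.ext fun v => ?_
      obtain ⟨a, ha⟩ := Submodule.mem_span_singleton.mp (hspan ▸ LinearMap.mem_range_self (M - 1) v)
      rw [LinearMap.add_apply, LinearMap.smulRight_apply, LinearMap.comp_apply, ← ha, map_smul, hφ1, smul_eq_mul,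
        mul_one, ha]
      simp
    set ψ := φ ∘ₗ (M - 1) with hψ
    have hψ0 : ψ ≠ 0 := fun h => hns ⟨1, by rw [hT, h, one_smul]; ext v; simp⟩
    have hψy : ψ y = 0 := by
      rw [hT] at hdet
      let Bs := Module.finBasis K V
      have e1 : LinearMap.det (1 + (ψ ∘ₗ Bs.equivFun.symm.toLinearMap).smulRight (Bs.equivFun y)) = 1 := by
        rw [← hdet, ← LinearMap.det_conj (1 + ψ.smulRight y) Bs.equivFun]
        congr 1
        refine LinearMap.ext fun v => ?_
        obtain ⟨u, rfl⟩ := Bs.equivFun.surjective v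
        simp only [LinearMap.comp_apply, LinearEquiv.coe_coe, LinearEquiv.symm_apply_apply, LinearMap.add_apply,
          Module.End.one_apply, LinearMap.smulRight_apply, map_add, map_smul]
      rw [RegUnipProd.det_one_add_smulRight, LinearMap.comp_apply, LinearEquiv.coe_coe, LinearEquiv.symm_apply_apply] at e1
      linear_combination e1
    rw [hT]
    exact transvection_opGood hq hψ0 hy0 hψy
  · obtain ⟨j, hj⟩ : ∃ j, finrank K V = j + 2 := ⟨finrank K V - 2, by omega⟩
    haveI : Nontrivial V := Module.nontrivial_of_finrank_pos (R := K) (by omega)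
    obtain ⟨c, hc⟩ := exists_ne (0 : V)
    obtain ⟨b, hb, -⟩ := RegUnipProd.sep (p := (⊥ : Submodule K V)) (x := c) (by simpa using hc)
    have h4 : ∃ k : Fin 4 → K, Function.Injective k := by
      obtain ⟨f⟩ := Function.Embedding.nonempty_of_card_le (α := Fin 4) (β := K) (by simpa using hq)
      exact ⟨f, f.injective⟩
    exact (generic_split h4 j M hj hdet hr hns c b hc (fun e => by simp [e] at hb)).opGood (last_of_endTwo hq)

end CfsgLib.SLCommutator
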