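import Cfsg.Agent.Lib.SLCommutator.Cyclic

/-! Fields with two or three elements. -/

set_option autoImplicit false
set_option linter.unusedSectionVars false

namespace CfsgLib.SLCommutator

open Matrix Module Polynomial

universe u v w

variable {K : Type u} [Field K]

/-- A decomposition with remainder `E`, forgetting the end conditions. -/
def Pre {κ : Type} [Fintype κ] [DecidableEq κ] {V : Type v} [AddCommGroup V] [Module K V] (M : Module.End K V)
    (E : Matrix κ κ K) : Prop :=
  ∃ (ι : Type) (_ : Fintype ι) (_ : DecidableEq ι) (Φ : V ≃ₗ[K] (ι ⊕ κ → K)) (L U : Matrix ι ι K)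
    (Q : Matrix ι κ K) (R : Matrix κ ι K) (m : ℕ),
    (∀ v, Φ (M v) = Matrix.fromBlocks (L * U) (L * Q) (R * U) (R * Q + E) *ᵥ Φ v) ∧
    (L - 1) ^ m = 0 ∧ (U - 1) ^ m = 0 ∧ U.det = 1 ∧ ∃ P : (Matrix ι ι K)ˣ, L * P.1 * U = P.1

theorem Split.pre [Fintype K] {κ : Type} [Fintype κ] [DecidableEq κ] {V : Type v} [AddCommGroup V] [Module K V]
    {M : Module.End K V} {j : ℕ} {c : V} {b : V →ₗ[K] K} {Pr : Matrix κ κ K → Prop} (h : Split M j c b Pr) :
    ∃ E, Pr E ∧ Pre M E := by
  obtain ⟨ι, _, _, Φ, L, U, Q, R, E, hcard, hΦ, hL, hU, -, hUd, hend, hE⟩ := h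
  have hsim := regular_sim hcard hL hU (fun h0 => ⟨fun e => (hend h0).1 (by rw [e, Matrix.zero_mulVec]),
    fun e => by
      obtain ⟨-, x, hx⟩ := hend h0
      refine hx ?_
      rw [e, Matrix.zero_mulVec, show (Sum.elim (0 : ι → K) (0 : κ → K)) = 0 from by funext i; rcases i <;> rfl,
        map_zero, map_zero]⟩) hUd
  exact ⟨E, hE, ι, inferInstance, inferInstance, Φ, L, U, Q, R, j, hΦ, hL, hU, hUd, hsim⟩

theorem Pre.opGood [Fintype K] {κ : Type} [Fintype κ] [DecidableEq κ] {V : Type v} [AddCommGroup V] [Module K V]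
    {M : Module.End K V} {E : Matrix κ κ K} (h : Pre M E) (hE : Last E) : OpGood M := by
  obtain ⟨ι, _, _, Φ, L, U, Q, R, m, hΦ, hL, hU, hUd, hsim⟩ := h
  refine (hE.good hL hU hUd hsim (Q := Q) (R := R)).opGood.conj Φ.symm M fun y => ?_
  rw [Matrix.toLin'_apply, LinearEquiv.eq_symm_apply, hΦ, LinearEquiv.apply_symm_apply]

theorem pow_fromBlocks_diag {ι ι' : Type} [Fintype ι] [DecidableEq ι] [Fintype ι'] [DecidableEq ι']
    (A : Matrix ι ι K) (B : Matrix ι' ι' K) (n : ℕ) :
    Matrix.fromBlocks A 0 0 B ^ n = Matrix.fromBlocks (A ^ n) 0 0 (B ^ n) := by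
  induction n with
  | zero => simp
  | succ n ih => rw [pow_succ, ih, Matrix.fromBlocks_multiply]; simp [pow_succ]

theorem Pre.prod {κ κ' : Type} [Fintype κ] [DecidableEq κ] [Fintype κ'] [DecidableEq κ'] {V : Type v}
    [AddCommGroup V] [Module K V] {W : Type w} [AddCommGroup W] [Module K W] {M : Module.End K V} {N : Module.End K W}
    {E : Matrix κ κ K} {E' : Matrix κ' κ' K} (h : Pre M E) (h' : Pre N E') :
    Pre (LinearMap.prodMap M N) (Matrix.fromBlocks E 0 0 E') := by
  obtain ⟨ι, _, _, Φ, L, U, Q, R, m, hΦ, hL, hU, hUd, P, hP⟩ := h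
  obtain ⟨ι', _, _, Φ', L', U', Q', R', m', hΦ', hL', hU', hUd', P', hP'⟩ := h'
  let S : ((ι ⊕ κ → K) × (ι' ⊕ κ' → K)) ≃ₗ[K] ((ι ⊕ ι') ⊕ (κ ⊕ κ') → K) :=
    (LinearEquiv.sumArrowLequivProdArrow (ι ⊕ κ) (ι' ⊕ κ') K K).symm ≪≫ₗ
      LinearEquiv.funCongrLeft K K (Equiv.sumSumSumComm ι ι' κ κ')
  have sub : ∀ (A : Matrix ι ι K) (B : Matrix ι' ι' K),
      Matrix.fromBlocks A 0 0 B - 1 = Matrix.fromBlocks (A - 1) 0 0 (B - 1) := fun A B => by
    rw [← Matrix.fromBlocks_one]; ext (i | i) (k | k) <;> simp [Matrix.one_apply]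
  refine ⟨ι ⊕ ι', inferInstance, inferInstance, (Φ.prodCongr Φ') ≪≫ₗ S, Matrix.fromBlocks L 0 0 L',
    Matrix.fromBlocks U 0 0 U', Matrix.fromBlocks Q 0 0 Q', Matrix.fromBlocks R 0 0 R', max m m', ?_, ?_, ?_, ?_, ?_⟩
  · rintro ⟨x, y⟩
    funext i
    have e1 : ∀ i, Φ (M x) i = _ := fun i => congrFun (hΦ x) i
    have e2 : ∀ i, Φ' (N y) i = _ := fun i => congrFun (hΦ' y) i
    simp only [Matrix.fromBlocks_multiply, Matrix.fromBlocks_add, Matrix.mul_zero, Matrix.zero_mul, add_zero, zero_add]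
    rcases i with (i | i) | (i | i) <;>
      simp [S, e1, e2, Matrix.mulVec, dotProduct, Fintype.sum_sum_type, LinearEquiv.funCongrLeft,
        LinearMap.funLeft, LinearEquiv.sumArrowLequivProdArrow, Equiv.sumArrowEquivProdArrow]
  · rw [sub, pow_fromBlocks_diag, pow_eq_zero_of_le (le_max_left m m') hL, pow_eq_zero_of_le (le_max_right m m') hL',
      Matrix.fromBlocks_zero]
  · rw [sub, pow_fromBlocks_diag, pow_eq_zero_of_le (le_max_left m m') hU, pow_eq_zero_of_le (le_max_right m m') hU',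
      Matrix.fromBlocks_zero]
  · rw [Matrix.det_fromBlocks_zero₂₁, hUd, hUd', one_mul]
  · refine ⟨⟨Matrix.fromBlocks P.1 0 0 P'.1, Matrix.fromBlocks (↑P⁻¹ : Matrix ι ι K) 0 0 (↑P'⁻¹ : Matrix ι' ι' K),
      by simp [Matrix.fromBlocks_multiply], by simp [Matrix.fromBlocks_multiply]⟩, ?_⟩
    simp [Matrix.fromBlocks_multiply, hP, hP']

theorem Pre.reindex {κ κ' : Type} [Fintype κ] [DecidableEq κ] [Fintype κ'] [DecidableEq κ'] {V : Type v}
    [AddCommGroup V] [Module K V] {M : Module.End K V} {E : Matrix κ κ K} (h : Pre M E) (σ : κ ≃ κ')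
    {E' : Matrix κ' κ' K} (hE : E' = Matrix.reindex σ σ E) : Pre M E' := by
  obtain ⟨ι, _, _, Φ, L, U, Q, R, m, hΦ, hL, hU, hUd, hsim⟩ := h
  subst hE
  refine ⟨ι, inferInstance, inferInstance,
    Φ ≪≫ₗ LinearEquiv.funCongrLeft K K ((Equiv.refl ι).sumCongr σ.symm), L, U, Q.submatrix id σ.symm,
    R.submatrix σ.symm id, m, fun v => ?_, hL, hU, hUd, hsim⟩
  funext i
  rcases i with i | i
  all_goals
    simp [hΦ, LinearEquiv.funCongrLeft, LinearMap.funLeft, Matrix.mulVec, dotProduct, Fintype.sum_sum_type,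
      Matrix.mul_apply, Matrix.submatrix]
    rw [← σ.sum_comp]
    simp

section Lasts

variable [Fintype K] (hsq : ∀ d : K, d ≠ 0 → d * d = 1)

include hsq

theorem last_pair (e : K) (he : e ≠ 0) : Last (!![e, 0; 0, e] : Matrix (Fin 2) (Fin 2) K) := by
  by_cases h2 : (2 : K) = 0
  · have e1 : e = 1 := by
      have h := hsq e he
      have : (e - 1) * (e - 1) = 0 := by linear_combination h + (1 - e) * h2
      exact sub_eq_zero.1 (mul_self_eq_zero.1 this)
    subst e1
    refine ⟨!![0, -1; 1, 1], by simp [Matrix.det_fin_two_of], ?_, ⟨1, ?_⟩, centralizer_det (by simp [Matrix.det_fin_two_of]) ?_⟩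
    · refine (Matrix.isUnit_iff_isUnit_det _).2 ?_
      simp [Matrix.det_fin_two]
    · simp [Matrix.one_fin_two]
    · rw [show (4 : K) = 2 * 2 by norm_num, h2]; simp [Matrix.trace_fin_two]
  · refine ⟨!![0, -1; 1, 0], by simp [Matrix.det_fin_two_of], ?_,
      ⟨⟨!![1, 0; 0, e], !![1, 0; 0, e], ?_, ?_⟩, ?_⟩, centralizer_det (by simp [Matrix.det_fin_two_of]) ?_⟩
    · refine (Matrix.isUnit_iff_isUnit_det _).2 (isUnit_iff_ne_zero.2 ?_)
      simp [Matrix.det_fin_two]
      intro h; apply h2; linear_combination h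
    · simp [Matrix.one_fin_two, hsq e he]
    · simp [Matrix.one_fin_two, hsq e he]
    · ext i j
      fin_cases i <;> fin_cases j <;> simp [Matrix.mul_apply, Fin.sum_univ_two, hsq e he]
    · rw [show (4 : K) = 2 * 2 by norm_num]
      simp [Matrix.trace_fin_two, h2]

theorem last_triple (e : K) (he : e ≠ 0) : Last (!![e, 0, 0; 0, e, 0; 0, 0, 1] : Matrix (Fin 3) (Fin 3) K) := by
  have hee := hsq e he
  refine ⟨!![0, 0, 1; 1, 0, 0; 0, 1, 1], by simp [Matrix.det_fin_three], ?_,
    ⟨((Matrix.isUnit_iff_isUnit_det (!![0, 0, 1; e, 0, 0; 0, e, e] : Matrix (Fin 3) (Fin 3) K)).2 ?_).unit, ?_⟩,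
    fun d => ⟨(d : K) • 1, by simp, ?_⟩⟩
  · refine (Matrix.isUnit_iff_isUnit_det _).2 (isUnit_iff_ne_zero.2 ?_)
    simp [Matrix.det_fin_three]
  · simp [Matrix.det_fin_three, hee]
  · rw [IsUnit.unit_spec]
    ext i j
    fin_cases i <;> fin_cases j <;> simp [Matrix.mul_apply, Fin.sum_univ_three, hee]
  · rw [Matrix.det_smul, Matrix.det_one, Fintype.card_fin, mul_one, pow_succ, pow_two, hsq _ d.ne_zero, one_mul]

end Lasts

/-- The product of a family of transformations. -/
def piMap {ι : Type} {W : ι → Type v} [∀ i, AddCommGroup (W i)] [∀ i, Module K (W i)]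
    (N : ∀ i, Module.End K (W i)) : Module.End K (∀ i, W i) :=
  LinearMap.pi fun i => N i ∘ₗ LinearMap.proj i

theorem piMap_apply {ι : Type} {W : ι → Type v} [∀ i, AddCommGroup (W i)] [∀ i, Module K (W i)]
    (N : ∀ i, Module.End K (W i)) (x : ∀ i, W i) (i : ι) : piMap N x i = N i (x i) := rfl

theorem det_piMap : ∀ {n : ℕ} {W : Fin n → Type u} [∀ i, AddCommGroup (W i)] [∀ i, Module K (W i)]
    [∀ i, FiniteDimensional K (W i)] (N : ∀ i, Module.End K (W i)),
    LinearMap.det (piMap N) = ∏ i, LinearMap.det (N i) := by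
  intro n
  induction n with
  | zero => intro W _ _ _ N; rw [LinearMap.det_eq_one_of_subsingleton]; simp
  | succ n ih =>
    intro W _ _ _ N
    let T : (W 0 × (∀ i : Fin n, W i.succ)) ≃ₗ[K] (∀ i, W i) :=
      { toFun := fun x => Fin.cons x.1 x.2
        map_add' := fun x y => by funext i; refine Fin.cases ?_ (fun j => ?_) i <;> rfl
        map_smul' := fun r x => by funext i; refine Fin.cases ?_ (fun j => ?_) i <;> rfl
        invFun := fun y => (y 0, fun i => y i.succ)
        left_inv := fun x => rfl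
        right_inv := fun y => by funext i; refine Fin.cases ?_ (fun j => ?_) i <;> rfl }
    rw [Fin.prod_univ_succ, ← ih (fun i => N i.succ), ← LinearMap.det_prodMap,
      ← LinearMap.det_conj (LinearMap.prodMap (N 0) (piMap fun i => N i.succ)) T]
    congr 1
    refine LinearMap.ext fun y => ?_
    obtain ⟨x, rfl⟩ := T.surjective y
    funext i
    simp only [LinearMap.comp_apply, LinearEquiv.coe_coe, LinearEquiv.symm_apply_apply]
    refine Fin.cases ?_ (fun j => ?_) i <;> rfl

theorem piCongrLeft_at {ι ι' : Type*} {W : ι → Type*} [∀ i, AddCommGroup (W i)] [∀ i, Module K (W i)]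
    (σ : ι' ≃ ι) (x : ∀ i, W (σ i)) (i : ι') : LinearEquiv.piCongrLeft K W σ x (σ i) = x i :=
  Equiv.piCongrLeft_apply_apply W σ x i

theorem exists_cyclic_decomp {V : Type v} [AddCommGroup V] [Module K V] [FiniteDimensional K V] (M : Module.End K V) :
    ∃ (m : ℕ) (W : Fin m → Type u) (_ : ∀ i, AddCommGroup (W i)) (_ : ∀ i, Module K (W i))
      (_ : ∀ i, FiniteDimensional K (W i)) (N : ∀ i, Module.End K (W i)) (e : (∀ i, W i) ≃ₗ[K] V),
      (∀ i, 0 < finrank K (W i) ∧ ∃ v, Cyc (N i) v) ∧ ∀ x, M (e x) = e (piMap N x) := by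
  classical
  have htor : Module.IsTorsion K[X] (Module.AEval' M) := Module.AEval.isTorsion_of_finiteDimensional ..
  obtain ⟨ι, _, p, -, k, ⟨E⟩⟩ := Module.equiv_directSum_of_isTorsion htor
  let Q : ι → Type u := fun i => K[X] ⧸ Submodule.span K[X] {p i ^ k i}
  let E' : (∀ i, Q i) ≃ₗ[K[X]] Module.AEval' M := (E ≪≫ₗ DirectSum.linearEquivFunOnFintype K[X] ι Q).symm
  let F : (∀ i, Q i) ≃ₗ[K] V := E'.restrictScalars K ≪≫ₗ (Module.AEval'.of M).symm
  let X' : ∀ i, Module.End K (Q i) := fun i => Algebra.lsmul K K (Q i) (X : K[X])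
  have hF : ∀ x, M (F x) = F (fun i => X' i (x i)) := fun x => by
    have : (fun i => X' i (x i)) = (X : K[X]) • x := rfl
    rw [this]
    show M ((Module.AEval'.of M).symm (E' x)) = (Module.AEval'.of M).symm (E' ((X : K[X]) • x))
    rw [map_smul, Module.AEval.of_symm_X_smul]
    rfl
  haveI : ∀ i, FiniteDimensional K (Q i) := fun i =>
    FiniteDimensional.of_injective ((F : (∀ i, Q i) →ₗ[K] V) ∘ₗ LinearMap.single K Q i)
      (F.injective.comp (Pi.single_injective (M := Q) i))
  have hcyc : ∀ i, ∃ v, Cyc (X' i) v := fun i => by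
    refine ⟨Submodule.Quotient.mk 1, fun q hq h1 => Submodule.eq_top_iff'.2 fun y => ?_⟩
    obtain ⟨f, rfl⟩ := Submodule.Quotient.mk_surjective _ y
    induction f using Polynomial.induction_on with
    | C a =>
      have : (Submodule.Quotient.mk (C a) : Q i) = a • (Submodule.Quotient.mk 1 : Q i) := by
        rw [← Submodule.Quotient.mk_smul]; simp [Algebra.smul_def]
      exact this ▸ q.smul_mem a h1
    | add f g hf hg => rw [Submodule.Quotient.mk_add]; exact q.add_mem hf hg
    | monomial n a h =>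
      have : (Submodule.Quotient.mk (C a * X ^ (n + 1)) : Q i) =
          X' i (Submodule.Quotient.mk (C a * X ^ n)) := by
        show _ = (X : K[X]) • (Submodule.Quotient.mk (C a * X ^ n) : Q i)
        rw [← Submodule.Quotient.mk_smul]
        congr 1
        rw [smul_eq_mul, pow_succ]; ring
      exact this ▸ hq _ h
  let J := {i : ι // 0 < finrank K (Q i)}
  have hz : ∀ i, ¬ 0 < finrank K (Q i) → Subsingleton (Q i) := fun i h =>
    Module.finrank_zero_iff.1 (Nat.eq_zero_of_not_pos h)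
  let σ := (Fintype.equivFin J).symm
  let T : (∀ j : J, Q j.1) ≃ₗ[K] (∀ i, Q i) :=
    { toFun := fun x i => if h : 0 < finrank K (Q i) then x ⟨i, h⟩ else 0
      map_add' := fun x y => by funext i; by_cases h : 0 < finrank K (Q i) <;> simp [h]
      map_smul' := fun r x => by funext i; by_cases h : 0 < finrank K (Q i) <;> simp [h]
      invFun := fun x j => x j.1
      left_inv := fun x => funext fun ⟨i, hi⟩ => by simp [hi]
      right_inv := fun x => funext fun i => by
        by_cases h : 0 < finrank K (Q i)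
        · simp [h]
        · exact @Subsingleton.elim _ (hz i h) _ _ }
  refine ⟨Fintype.card J, fun a => Q (σ a).1, inferInstance, inferInstance, inferInstance, fun a => X' (σ a).1,
    LinearEquiv.piCongrLeft K (fun j : J => Q j.1) σ ≪≫ₗ T ≪≫ₗ F, fun a => ⟨(σ a).2, hcyc _⟩, fun x => ?_⟩
  simp only [LinearEquiv.trans_apply, hF]
  congr 1
  funext i
  by_cases h : 0 < finrank K (Q i)
  · obtain ⟨a, ha⟩ := σ.surjective ⟨i, h⟩
    obtain rfl : (σ a).1 = i := congrArg Subtype.val ha
    simp only [T, LinearEquiv.coe_mk, LinearMap.coe_mk, AddHom.coe_mk, dif_pos h]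
    show X' (σ a).1 (LinearEquiv.piCongrLeft K (fun j : J => Q j.1) σ x (σ a)) =
      LinearEquiv.piCongrLeft K (fun j : J => Q j.1) σ (piMap (fun a => X' (σ a).1) x) (σ a)
    rw [piCongrLeft_at, piCongrLeft_at, piMap_apply]
  · exact @Subsingleton.elim _ (hz i h) _ _

variable [Fintype K]

/-- A family of at least two pieces with product of determinants one. -/
theorem opGood_family (hsq : ∀ d : K, d ≠ 0 → d * d = 1) : ∀ (m : ℕ) (W : Fin (m + 2) → Type u)
    [∀ i, AddCommGroup (W i)] [∀ i, Module K (W i)] [∀ i, FiniteDimensional K (W i)] (N : ∀ i, Module.End K (W i))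
    (d : Fin (m + 2) → K), (∀ i, Pre (N i) (Matrix.of ![![d i]])) → ∏ i, d i = 1 → OpGood (piMap N) := by
  classical
  intro m
  induction m using Nat.strong_induction_on with
  | _ m ih =>
    intro W _ _ _ N d hpre hprod
    have hd : ∀ i, d i ≠ 0 := fun i => Finset.prod_ne_zero_iff.1 (hprod ▸ one_ne_zero) i (Finset.mem_univ _)
    have hd1 : ∀ i, d i = 1 ∨ d i = -1 := fun i => mul_self_eq_one_iff.1 (hsq _ (hd i))
    obtain ⟨σ, hσ⟩ : ∃ σ : Equiv.Perm (Fin (m + 2)), d (σ 0) = d (σ 1) := by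
      by_cases h01 : d 0 = d 1
      · exact ⟨1, h01⟩
      rcases m with _ | m
      · rw [Fin.prod_univ_two] at hprod
        refine absurd ?_ h01
        have := hsq _ (hd 1)
        linear_combination d 1 * hprod - d 0 * this
      have h12 : d 2 = d 0 ∨ d 2 = d 1 := by
        rcases hd1 0 with a | a <;> rcases hd1 1 with b | b <;> rcases hd1 2 with c | c <;>
          first | exact absurd (a.trans b.symm) h01 | exact Or.inl (c.trans a.symm) | exact Or.inr (c.trans b.symm)
      have n02 : (0 : Fin (m + 1 + 2)) ≠ 2 := fun e => by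
        have := congrArg Fin.val e
        simp [Nat.mod_eq_of_lt (show 2 < m + 1 + 2 by omega)] at this
      have n12 : (1 : Fin (m + 1 + 2)) ≠ 2 := fun e => by
        have := congrArg Fin.val e
        simp [Nat.mod_eq_of_lt (show 2 < m + 1 + 2 by omega)] at this
      rcases h12 with c | c
      · refine ⟨Equiv.swap 1 2, ?_⟩
        rw [Equiv.swap_apply_left, Equiv.swap_apply_of_ne_of_ne (Fin.zero_ne_one) n02, c]
      · refine ⟨Equiv.swap 0 2, ?_⟩
        rw [Equiv.swap_apply_left, Equiv.swap_apply_of_ne_of_ne (Fin.zero_ne_one).symm n12, c]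
    have hprod' : ∏ i, d (σ i) = 1 := by rw [Equiv.prod_comp σ d, hprod]
    suffices h : OpGood (piMap fun i => N (σ i)) by
      refine h.conj (LinearEquiv.piCongrLeft K W σ) _ fun x => ?_
      funext j
      obtain ⟨i, rfl⟩ := σ.surjective j
      rw [piMap_apply, piCongrLeft_at, piCongrLeft_at, piMap_apply]
    have hpair := (hpre (σ 0)).prod (hpre (σ 1))
    let e2 : (W (σ 0) × W (σ 1)) ≃ₗ[K] (W (σ 0) × W (σ 1)) := LinearEquiv.refl K _
    rcases m with _ | _ | m
    · refine (((hpair.reindex finSumFinEquiv (E' := !![d (σ 0), 0; 0, d (σ 0)]) ?_).opGood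
        (last_pair hsq _ (hd _))).conj (LinearEquiv.piFinTwo K fun i => W (σ i)).symm _ fun x => ?_)
      · ext i j; fin_cases i <;> fin_cases j <;> simp [finSumFinEquiv, Fin.addCases, hσ]
      · funext i; fin_cases i <;> rfl
    · have e12 : d (σ 2) = 1 := by
        rw [Fin.prod_univ_three, ← hσ, hsq _ (hd _), one_mul] at hprod'
        exact hprod'
      let T : ((W (σ 0) × W (σ 1)) × W (σ 2)) ≃ₗ[K] (∀ i : Fin 3, W (σ i)) :=
        { toFun := fun x => Fin.cons x.1.1 (Fin.cons x.1.2 (Fin.cons x.2 finZeroElim))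
          map_add' := fun x y => by funext i; fin_cases i <;> rfl
          map_smul' := fun r x => by funext i; fin_cases i <;> rfl
          invFun := fun y => ((y 0, y 1), y 2)
          left_inv := fun x => rfl
          right_inv := fun y => by funext i; fin_cases i <;> rfl }
      refine ((((hpair.prod (hpre (σ 2))).reindex
        ((finSumFinEquiv.sumCongr (Equiv.refl (Fin 1))).trans finSumFinEquiv)
        (E' := !![d (σ 0), 0, 0; 0, d (σ 0), 0; 0, 0, 1]) ?_).opGood (last_triple hsq _ (hd _))).conj T _ fun x => ?_)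
      · ext i j
        fin_cases i <;> fin_cases j <;> simp [finSumFinEquiv, Fin.addCases, hσ, e12, Fin.castLT, Fin.subNat]
      · funext i; fin_cases i <;> rfl
    · let tail : Fin (m + 2) → Fin (m + 2 + 2) := fun i => σ i.succ.succ
      have hrest := ih m (by omega) (fun i => W (tail i)) (fun i => N (tail i)) (fun i => d (tail i))
        (fun i => hpre _) (by
          rw [Fin.prod_univ_succ, Fin.prod_univ_succ, ← mul_assoc,
            show d (σ (Fin.succ (0 : Fin (m + 2 + 1)))) = d (σ 0) from hσ.symm, hsq _ (hd _), one_mul] at hprod'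
          exact hprod')
      have hfirst := (hpair.reindex finSumFinEquiv (E' := !![d (σ 0), 0; 0, d (σ 0)]) (by
        ext i j; fin_cases i <;> fin_cases j <;> simp [finSumFinEquiv, Fin.addCases, hσ])).opGood
        (last_pair hsq _ (hd _))
      let T : ((W (σ 0) × W (σ 1)) × (∀ i, W (tail i))) ≃ₗ[K] (∀ i : Fin (m + 2 + 2), W (σ i)) :=
        { toFun := fun x => Fin.cons x.1.1 (Fin.cons x.1.2 x.2)
          map_add' := fun x y => by funext i; refine Fin.cases ?_ (Fin.cases ?_ fun j => ?_) i <;> rfl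
          map_smul' := fun r x => by funext i; refine Fin.cases ?_ (Fin.cases ?_ fun j => ?_) i <;> rfl
          invFun := fun y => ((y 0, y 1), fun i => y i.succ.succ)
          left_inv := fun x => rfl
          right_inv := fun y => by funext i; refine Fin.cases ?_ (Fin.cases ?_ fun j => ?_) i <;> rfl }
      refine (hfirst.prod hrest).conj T _ fun x => ?_
      funext i
      refine Fin.cases ?_ (Fin.cases ?_ fun j => ?_) i <;> rfl

theorem opGood_small (hsq : ∀ d : K, d ≠ 0 → d * d = 1) {V : Type u} [AddCommGroup V] [Module K V]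
    [FiniteDimensional K V] (hn : 3 ≤ finrank K V) (M : Module.End K V) (hdet : LinearMap.det M = 1) : OpGood M := by
  classical
  obtain ⟨m, W, i1, i2, i3, N, e, hN, he⟩ := exists_cyclic_decomp M
  refine OpGood.conj ?_ e M he
  have hdim : finrank K (∀ i, W i) = finrank K V := e.finrank_eq
  rcases m with _ | _ | m
  · rw [Module.finrank_pi_fintype] at hdim
    simp at hdim
    omega
  · obtain ⟨hpos, v, hv⟩ := hN 0
    let T : W 0 ≃ₗ[K] (∀ i : Fin 1, W i) :=
      { toFun := fun x => Fin.cons x finZeroElim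
        map_add' := fun x y => by funext i; fin_cases i; rfl
        map_smul' := fun r x => by funext i; fin_cases i; rfl
        invFun := fun y => y 0
        left_inv := fun x => rfl
        right_inv := fun y => by funext i; fin_cases i; rfl }
    have hT : ∀ x, piMap N (T x) = T (N 0 x) := fun x => by funext i; fin_cases i; rfl
    have hdim0 : finrank K (W 0) = finrank K V := by rw [T.finrank_eq, hdim]
    have hd0 : LinearMap.det (N 0) = 1 := by
      rw [← hdet, ← LinearMap.det_conj (N 0) (T ≪≫ₗ e)]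
      congr 1
      refine LinearMap.ext fun y => ?_
      obtain ⟨x, rfl⟩ := (T ≪≫ₗ e).surjective y
      simp [he, hT]
    refine OpGood.conj ?_ T _ hT
    obtain ⟨j, hj⟩ : ∃ j, finrank K (W 0) = j + 1 + 2 := ⟨finrank K (W 0) - 3, by omega⟩
    obtain ⟨b, hb, -⟩ := RegUnipProd.sep (p := (⊥ : Submodule K (W 0))) (x := v) (by simpa using hv.ne_zero hpos)
    set t : K := if (2 : K) = 0 then 1 else 0 with ht
    obtain ⟨E, ⟨hE1, hE2⟩, hpre⟩ := (cyc_split_two t (j + 1) (N 0) v hj hv hd0 (by omega) b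
      (fun _ => by rw [hb]; exact one_ne_zero)).pre
    have ht4 : t * t ≠ 4 ∧ t ≠ 2 ∧ t ≠ -2 := by
      by_cases h2 : (2 : K) = 0
      · rw [ht, if_pos h2, show (4 : K) = 2 * 2 by norm_num, h2]; simp
      · rw [ht, if_neg h2, show (4 : K) = 2 * 2 by norm_num]
        simp [Ne.symm h2, h2]
    refine hpre.opGood (last_two hE1 (fun x hx => ht4.1 ?_) (hE2 ▸ ht4.2.1) (Or.inr (hE2 ▸ ht4.2.2)))
    subst hx
    rw [Matrix.det_smul, Fintype.card_fin, Matrix.det_one, mul_one] at hE1
    rw [← hE2, Matrix.trace_smul, Matrix.trace_one, Fintype.card_fin, smul_eq_mul]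
    push_cast
    linear_combination 4 * hE1
  · refine opGood_family hsq m W N (fun i => LinearMap.det (N i)) (fun i => ?_) ?_
    · obtain ⟨hpos, v, hv⟩ := hN i
      obtain ⟨j, hj⟩ : ∃ j, finrank K (W i) = j + 1 := ⟨finrank K (W i) - 1, by omega⟩
      obtain ⟨b, hb, -⟩ := RegUnipProd.sep (p := (⊥ : Submodule K (W i))) (x := v) (by simpa using hv.ne_zero hpos)
      obtain ⟨E, hE, hpre⟩ := (cyc_split_one j (N i) v hj hv b (fun _ => by rw [hb]; exact one_ne_zero)).pre
      have : E = Matrix.of ![![LinearMap.det (N i)]] := by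
        ext a c; fin_cases a; fin_cases c; simpa using hE
      exact this ▸ hpre
    · rw [← det_piMap, ← hdet, ← LinearMap.det_conj (piMap N) e]
      congr 1
      refine LinearMap.ext fun y => ?_
      obtain ⟨x, rfl⟩ := e.surjective y
      simp [he]

end CfsgLib.SLCommutator
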