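import Cfsg.Agent.Lib.SLCommutator.Block
import Cfsg.Agent.Lib.GL2Classes

/-! The final two-dimensional block. -/

set_option autoImplicit false
set_option linter.unusedSectionVars false

namespace CfsgLib.SLCommutator

open Matrix Polynomial

variable {K : Type*} [Field K] [Fintype K]

theorem exists_sum_squares (h2 : (2 : K) ≠ 0) {α β : K} (hα : α ≠ 0) (hβ : β ≠ 0) (d : K) :
    ∃ x y : K, α * x ^ 2 + β * y ^ 2 = d := by
  have hchar : ringChar K ≠ 2 := fun e => h2 (by
    have := ringChar.Nat.cast_ringChar (R := K)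
    rw [e] at this
    exact_mod_cast this)
  obtain ⟨x, y, h⟩ := FiniteField.exists_root_sum_quadratic (f := C α * X ^ 2 - C d) (g := C β * X ^ 2)
    (by rw [degree_sub_eq_left_of_degree_lt] <;> rw [degree_C_mul_X_pow 2 hα]
        · norm_cast
        · exact lt_of_le_of_lt degree_C_le (by norm_num))
    (degree_C_mul_X_pow 2 hβ) (FiniteField.odd_card_of_char_ne_two hchar)
  refine ⟨x, y, ?_⟩
  simp only [eval_sub, eval_mul, eval_C, eval_pow, eval_X] at h
  linear_combination h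

theorem exists_sq (h2 : (2 : K) = 0) (d : K) : ∃ x : K, x ^ 2 = d := by
  have hchar : ringChar K = 2 := by
    have hd : ringChar K ∣ 2 := ringChar.dvd (by exact_mod_cast h2)
    rcases (Nat.dvd_prime Nat.prime_two).1 hd with e | e
    · exact absurd e (CharP.ringChar_ne_one)
    · exact e
  obtain ⟨x, hx⟩ := FiniteField.isSquare_of_char_two hchar d
  exact ⟨x, by rw [hx, pow_two]⟩

/-- Binary quadratic forms without double root represent everything. -/
theorem exists_form {s : K} (hs : s * s ≠ 4) (d : K) : ∃ x y : K, x ^ 2 + s * x * y + y ^ 2 = d := by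
  by_cases h2 : (2 : K) = 0
  · obtain ⟨x, hx⟩ := exists_sq h2 d
    exact ⟨x, 0, by rw [← hx]; ring⟩
  · have h4 : (1 - s * s / 4 : K) ≠ 0 := fun e => hs (by
      have h4' : (4 : K) ≠ 0 := by rw [show (4 : K) = 2 * 2 by norm_num]; exact mul_ne_zero h2 h2
      field_simp at e
      linear_combination -e)
    obtain ⟨x, y, h⟩ := exists_sum_squares h2 one_ne_zero h4 d
    refine ⟨x - s * y / 2, y, ?_⟩
    rw [← h]
    have h4' : (4 : K) ≠ 0 := by rw [show (4 : K) = 2 * 2 by norm_num]; exact mul_ne_zero h2 h2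
    field_simp
    ring

/-- The centraliser of a two by two matrix without repeated eigenvalue has every determinant. -/
theorem centralizer_det {W : Matrix (Fin 2) (Fin 2) K} (hW : W.det = 1) (hs : W.trace * W.trace ≠ 4) (d : Kˣ) :
    ∃ z : Matrix (Fin 2) (Fin 2) K, z * W = W * z ∧ z.det = d := by
  obtain ⟨x, y, h⟩ := exists_form hs (d : K)
  refine ⟨x • 1 + y • W, ?_, ?_⟩
  · rw [Matrix.add_mul, Matrix.mul_add]; simp
  · rw [Matrix.det_fin_two] at hW ⊢
    rw [Matrix.trace_fin_two] at h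
    simp
    linear_combination h + y ^ 2 * hW

/-- The data attached to a last block. -/
def Last {κ : Type*} [Fintype κ] [DecidableEq κ] (E : Matrix κ κ K) : Prop :=
  ∃ W : Matrix κ κ K, W.det = 1 ∧ IsUnit (W - 1) ∧ (∃ P : (Matrix κ κ K)ˣ, E * W * P.1 = P.1 * W) ∧
    ∀ d : Kˣ, ∃ z : Matrix κ κ K, z * W = W * z ∧ z.det = d

theorem Last.good {ι κ : Type*} [Fintype ι] [DecidableEq ι] [Fintype κ] [DecidableEq κ] {E : Matrix κ κ K}
    (h : Last E) {L U : Matrix ι ι K} {Q : Matrix ι κ K} {R : Matrix κ ι K} {m : ℕ} (hL : (L - 1) ^ m = 0)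
    (hU : (U - 1) ^ m = 0) (hUd : U.det = 1) (hsim : ∃ P : (Matrix ι ι K)ˣ, L * P.1 * U = P.1) :
    Good (Matrix.fromBlocks (L * U) (L * Q) (R * U) (R * Q + E)) := by
  obtain ⟨W, h1, h2, h3, h4⟩ := h
  exact good_of_blocks hL hU hUd hsim h1 h2 h3 h4

theorem Last.conj {κ : Type*} [Fintype κ] [DecidableEq κ] {E E' : Matrix κ κ K} (h : Last E)
    (P : (Matrix κ κ K)ˣ) (he : E' * P.1 = P.1 * E) : Last E' := by
  obtain ⟨W, hd, h1, ⟨T, hT⟩, hz⟩ := h
  have hinv : ∀ A : Matrix κ κ K, (P.1 * A * (↑P⁻¹ : Matrix κ κ K)).det = A.det := fun A => Matrix.det_units_conj P A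
  refine ⟨P.1 * W * (↑P⁻¹ : Matrix κ κ K), by rw [hinv, hd], ?_, ⟨P * T * P⁻¹, ?_⟩, fun d => ?_⟩
  · have : P.1 * W * (↑P⁻¹ : Matrix κ κ K) - 1 = P.1 * (W - 1) * (↑P⁻¹ : Matrix κ κ K) := by
      rw [mul_sub, sub_mul, mul_one, Units.mul_inv]
    rw [this]
    exact (P.isUnit.mul h1).mul P⁻¹.isUnit
  · calc E' * (P.1 * W * (↑P⁻¹ : Matrix κ κ K)) * (P * T * P⁻¹ : (Matrix κ κ K)ˣ).1
        = E' * P.1 * W * T.1 * (↑P⁻¹ : Matrix κ κ K) := by simp [mul_assoc]
      _ = P.1 * (E * W * T.1) * (↑P⁻¹ : Matrix κ κ K) := by rw [he]; simp only [mul_assoc]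
      _ = (P * T * P⁻¹ : (Matrix κ κ K)ˣ).1 * (P.1 * W * (↑P⁻¹ : Matrix κ κ K)) := by rw [hT]; simp [mul_assoc]
  · obtain ⟨z, hz1, hz2⟩ := hz d
    refine ⟨P.1 * z * (↑P⁻¹ : Matrix κ κ K), ?_, by rw [hinv, hz2]⟩
    calc P.1 * z * (↑P⁻¹ : Matrix κ κ K) * (P.1 * W * (↑P⁻¹ : Matrix κ κ K))
        = P.1 * (z * W) * (↑P⁻¹ : Matrix κ κ K) := by simp [mul_assoc]
      _ = _ := by rw [hz1]; simp [mul_assoc]

theorem last_two_of {E : Matrix (Fin 2) (Fin 2) K} (hE : E.det = 1) (hns : ∀ x : K, E ≠ x • 1) {s a c : K}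
    (hs : s * s ≠ 4)
    (he : a ^ 2 + E.trace * a * c + c ^ 2 - s * a + s * (1 - E.trace) * c + 1 = 0) : Last E := by
  obtain ⟨P, hP⟩ := GL2Classes.exists_conj_comp hns
  rw [hE] at hP
  refine Last.conj (E := GL2Classes.comp E.trace 1) ?_ P hP
  set t := E.trace with ht
  set W : Matrix (Fin 2) (Fin 2) K := !![a, s + c - t * (s - a); c, s - a] with hW
  have hWd : W.det = 1 := by rw [hW, Matrix.det_fin_two_of]; linear_combination -he
  have hWt : W.trace = s := by simp [hW, Matrix.trace_fin_two]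
  have hEt : (GL2Classes.comp t 1 * W).trace = s := by
    simp [hW, GL2Classes.comp, Matrix.trace_fin_two, Matrix.mul_apply, Fin.sum_univ_two]
  have hns' : ∀ M : Matrix (Fin 2) (Fin 2) K, M.det = 1 → M.trace = s → ∀ x : K, M ≠ x • 1 := by
    intro M hd hm x hx
    apply hs
    subst hx
    rw [Matrix.det_smul, Fintype.card_fin, Matrix.det_one, mul_one] at hd
    rw [← hm, Matrix.trace_smul, Matrix.trace_one, Fintype.card_fin, smul_eq_mul]
    push_cast
    linear_combination 4 * hd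
  have hEd : (GL2Classes.comp t 1 * W).det = 1 := by rw [Matrix.det_mul, GL2Classes.det_comp, hWd, one_mul]
  obtain ⟨P1, h1⟩ := GL2Classes.exists_conj_comp (hns' W hWd hWt)
  obtain ⟨P2, h2⟩ := GL2Classes.exists_conj_comp (hns' _ hEd hEt)
  rw [hWd, hWt] at h1
  rw [hEd, hEt] at h2
  refine ⟨W, hWd, ?_, ⟨P2 * P1⁻¹, ?_⟩, fun d => centralizer_det hWd (by rw [hWt]; exact hs) d⟩
  · refine (Matrix.isUnit_iff_isUnit_det _).2 (isUnit_iff_ne_zero.2 fun h0 => hs ?_)
    rw [Matrix.det_fin_two] at h0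
    rw [Matrix.det_fin_two] at hWd
    rw [Matrix.trace_fin_two] at hWt
    simp at h0
    have : s = 2 := by linear_combination hWd - h0 - hWt
    rw [this]; norm_num
  · calc GL2Classes.comp t 1 * W * (P2 * P1⁻¹ : GL (Fin 2) K).1
        = GL2Classes.comp t 1 * W * P2.1 * (↑P1⁻¹ : Matrix (Fin 2) (Fin 2) K) := by simp [mul_assoc]
      _ = P2.1 * ((↑P1⁻¹ : Matrix (Fin 2) (Fin 2) K) * (W * P1.1)) * (↑P1⁻¹ : Matrix (Fin 2) (Fin 2) K) := by
          rw [h2, h1, Units.inv_mul_cancel_left]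
      _ = _ := by simp [mul_assoc]

/-- A two by two block of trace different from two. -/
theorem last_two {E : Matrix (Fin 2) (Fin 2) K} (hE : E.det = 1) (hns : ∀ x : K, E ≠ x • 1) (ht : E.trace ≠ 2)
    (hq : 4 ≤ Fintype.card K ∨ E.trace ≠ -2) : Last E := by
  set t := E.trace with htd
  by_cases h2 : (2 : K) = 0
  · have ht0 : t ≠ 0 := fun e => ht (e.trans h2.symm)
    obtain ⟨a, ha⟩ := exists_sq h2 (-((1 / t) ^ 2 + (1 - t) * (1 / t) + 1))
    refine last_two_of hE hns (s := 1) (a := a) (c := 1 / t) ?_ ?_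
    · rw [show (4 : K) = 2 * 2 by norm_num, h2, mul_zero]; simp
    · rw [← htd]
      have : t * a * (1 / t) = a := by field_simp
      linear_combination ha + this
  · classical
    have h4 : (4 : K) ≠ 0 := by rw [show (4 : K) = 2 * 2 by norm_num]; exact mul_ne_zero h2 h2
    by_cases hm : t = -2
    · have hq' := hq.resolve_right (not_not_intro hm)
      obtain ⟨s, hs⟩ := Finset.exists_mem_notMem_of_card_lt_card (s := ({0, 2, -2} : Finset K)) (t := Finset.univ)
        (lt_of_le_of_lt Finset.card_le_three (show 3 < Finset.card Finset.univ by rw [Finset.card_univ]; omega))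
      simp only [Finset.mem_insert, Finset.mem_singleton, not_or, Finset.mem_univ, true_and] at hs
      obtain ⟨hs0, hs2, hs2'⟩ := hs
      refine last_two_of hE hns (s := s) (a := -1 / (2 * s)) (c := -1 / (2 * s)) ?_ ?_
      · intro e
        rcases mul_eq_zero.1 (show (s - 2) * (s + 2) = 0 by linear_combination e) with e | e
        · exact hs2 (sub_eq_zero.1 e)
        · exact hs2' (eq_neg_of_add_eq_zero_left e)
      · rw [← htd, hm]
        field_simp
        ring
    · have hb : 1 - t * t / 4 ≠ 0 := fun e => by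
        field_simp at e
        rcases mul_eq_zero.1 (show (t - 2) * (t + 2) = 0 by linear_combination -e) with e | e
        · exact ht (sub_eq_zero.1 e)
        · exact hm (eq_neg_of_add_eq_zero_left e)
      obtain ⟨x, y, h⟩ := exists_sum_squares h2 one_ne_zero hb (-1)
      refine last_two_of hE hns (s := 0) (a := x - t * y / 2) (c := y) ?_ ?_
      · rw [mul_zero]; exact Ne.symm h4
      · rw [← htd]
        field_simp at h ⊢
        linear_combination h

end CfsgLib.SLCommutator
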